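import Mathlib
import Cfsg.Agent.Lib.CharInt.Central
import Cfsg.Agent.Lib.CharInt.Basic
import Cfsg.Agent.Lib.ZassenhausFeit.Split

/-!
# Characters of a Suzuki 2-group

`X` is a finite group whose centre `Z` consists of the elements of square one and contains all
squares, and a group `E` of order `|Z| - 1` acts without fixed classes, transitively on the
involutions.
-/

set_option autoImplicit false
set_option linter.unusedSectionVars false
set_option linter.style.haveILetI false
set_option linter.unusedDecidableInType false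

namespace Cfsg.Agent.ZassenhausSuzuki

open Finset Cfsg.Agent.ZassenhausFeit
open scoped ComplexConjugate

universe u v

variable {X : Type u} [Group X] [Fintype X] {E : Type v} [Group E] [Fintype E]

/-- The facts about a kernel of Suzuki type. -/
structure Kernel (ρ : E →* MulAut X) : Prop where
  free : Free ρ
  center_iff : ∀ x : X, x ∈ Subgroup.center X ↔ x * x = 1
  sq_mem : ∀ x : X, x * x ∈ Subgroup.center X
  comm_mem : ∀ x y : X, x * y * x⁻¹ * y⁻¹ ∈ Subgroup.center X
  card_center : Nat.card (Subgroup.center X) = Fintype.card E + 1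
  trans : ∀ z w : X, z ∈ Subgroup.center X → z ≠ 1 → w ∈ Subgroup.center X → w ≠ 1 →
    ∃ g : E, ρ g z = w
  nonab : ∃ x y : X, x * y ≠ y * x

section Basic

/-- The scalar by which a central element acts. -/
theorem exists_centralChar (θ : IrrCharacter X) :
    ∃ lam : Subgroup.center X →* ℂ,
      ∀ (z : Subgroup.center X) (x : X), θ.1 ((z : X) * x) = lam z * θ.1 x := by
  obtain ⟨n, ρ, hρ, hρθ⟩ := θ.2
  haveI := hρ
  haveI := CharInt.nontrivial_of_irreducible ρ
  choose c hc using fun z : Subgroup.center X => CharInt.exists_smul_one_of_mem_center ρ z.2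
  have hinj : ∀ a b : ℂ, a • (1 : Module.End ℂ (Fin n → ℂ)) = b • 1 → a = b := fun a b h => by
    obtain ⟨v, hv⟩ := exists_ne (0 : Fin n → ℂ)
    have h1 := LinearMap.congr_fun h v
    simp only [LinearMap.smul_apply, Module.End.one_apply] at h1
    exact smul_left_injective ℂ hv h1
  refine ⟨⟨⟨c, hinj _ _ ?_⟩, fun z w => hinj _ _ ?_⟩, fun z x => ?_⟩
  · rw [← hc, Subgroup.coe_one, map_one, one_smul]
  · show c (z * w) • _ = (c z * c w) • _
    rw [← hc, Subgroup.coe_mul, map_mul, hc, hc, smul_mul_smul_comm, mul_one]
  · show θ.1 _ = c z * θ.1 x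
    rw [← hρθ]
    simp only [Representation.character, map_mul, hc, smul_mul_assoc, one_mul, map_smul, smul_eq_mul]

/-- The character of the centre under an irreducible character. -/
noncomputable def centralChar (θ : IrrCharacter X) : Subgroup.center X →* ℂ :=
  Classical.choose (exists_centralChar θ)

theorem apply_mul_central (θ : IrrCharacter X) (z : Subgroup.center X) (x : X) :
    θ.1 ((z : X) * x) = centralChar θ z * θ.1 x :=
  Classical.choose_spec (exists_centralChar θ) z x

theorem apply_central (θ : IrrCharacter X) (z : Subgroup.center X) :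
    θ.1 (z : X) = centralChar θ z * Char.degree θ := by
  have h := apply_mul_central θ z 1
  rwa [mul_one, Char.apply_one_eq_degree] at h

theorem centralChar_ext {θ η : IrrCharacter X}
    (h : ∀ z : Subgroup.center X, centralChar θ z = centralChar η z) :
    centralChar θ = centralChar η := MonoidHom.ext h

end Basic

variable {ρ : E →* MulAut X} (hK : Kernel ρ)
include hK

theorem Kernel.centralChar_sq (θ : IrrCharacter X) (z : Subgroup.center X) :
    centralChar θ z = 1 ∨ centralChar θ z = -1 := by
  apply mul_self_eq_one_iff.1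
  rw [← map_mul, show z * z = 1 from Subtype.ext ((hK.center_iff z).1 z.2), map_one]

/-- The elements acting as scalars modulo the kernel of a central character. -/
noncomputable def rad (lam : Subgroup.center X →* ℂ) (hK : Kernel ρ) : Finset X := by
  classical
  exact univ.filter fun v => ∀ w, lam ⟨w * v * w⁻¹ * v⁻¹, hK.comm_mem w v⟩ = 1

theorem Kernel.sq_degree_mul_card_rad (θ : IrrCharacter X) :
    Char.degree θ ^ 2 * (rad (centralChar θ) hK).card = Nat.card X := by
  classical
  obtain ⟨n, σ, hσ, hσθ⟩ := θ.2
  haveI := hσ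
  haveI := CharInt.nontrivial_of_irreducible σ
  have hconj : ∀ w v : X, θ.1 v =
      centralChar θ ⟨w * v * w⁻¹ * v⁻¹, hK.comm_mem w v⟩ * θ.1 v := by
    intro w v
    rw [← apply_mul_central θ ⟨_, hK.comm_mem w v⟩ v]
    simp only [inv_mul_cancel_right]
    exact (Char.IsCharacter.isClassFunction (Char.irr_isCharacter θ) v w).symm
  have hzero : ∀ v, v ∉ rad (centralChar θ) hK → θ.1 v = 0 := by
    intro v hv
    simp only [rad, mem_filter, mem_univ, true_and, not_forall] at hv
    obtain ⟨w, hw⟩ := hv
    have h := hconj w v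
    have h' : (centralChar θ ⟨_, hK.comm_mem w v⟩ - 1) * θ.1 v = 0 := by
      rw [sub_mul, one_mul, ← h, sub_self]
    exact (mul_eq_zero.1 h').resolve_left (sub_ne_zero.2 hw)
  have hsc : ∀ v ∈ rad (centralChar θ) hK, θ.1 v * conj (θ.1 v) = (Char.degree θ : ℂ) ^ 2 := by
    intro v hv
    simp only [rad, mem_filter, mem_univ, true_and] at hv
    obtain ⟨c, hc⟩ := CharInt.exists_eq_smul_one_of_commute σ (σ v) fun w => by
      obtain ⟨d, hd⟩ := CharInt.exists_smul_one_of_mem_center σ (hK.comm_mem w v)
      have hd1 : d = 1 := by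
        have h1 := hv w
        have h2 := apply_central θ ⟨_, hK.comm_mem w v⟩
        rw [h1, one_mul, ← hσθ] at h2
        simp only [Representation.character, hd, map_smul, LinearMap.trace_one, smul_eq_mul] at h2
        have hdeg : (Char.degree θ : ℂ) = (Module.finrank ℂ (Fin n → ℂ) : ℂ) := by
          rw [← Char.apply_one_eq_degree, ← hσθ, σ.char_one]
        rw [hdeg] at h2
        exact (mul_eq_right₀ (Nat.cast_ne_zero.2 Module.finrank_pos.ne')).1 h2
      rw [← map_mul σ w v, show w * v = (w * v * w⁻¹ * v⁻¹) * (v * w) by group,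
        map_mul σ _ (v * w), hd, hd1, one_smul, one_mul, map_mul]
    have hval : θ.1 v = c * (Char.degree θ : ℂ) := by
      rw [← Char.apply_one_eq_degree θ, ← hσθ, σ.char_one]
      simp only [Representation.character, hc, map_smul, LinearMap.trace_one, smul_eq_mul]
    obtain ⟨m, hm⟩ : ∃ m, 0 < m ∧ c ^ m = 1 := by
      refine ⟨orderOf v, orderOf_pos v, ?_⟩
      have h1 : σ v ^ orderOf v = 1 := by rw [← map_pow, pow_orderOf_eq_one, map_one]
      rw [hc, smul_pow, one_pow] at h1
      obtain ⟨u, hu⟩ := exists_ne (0 : Fin n → ℂ)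
      have h2 := LinearMap.congr_fun h1 u
      simp only [LinearMap.smul_apply, Module.End.one_apply] at h2
      exact smul_left_injective ℂ hu (h2.trans (one_smul ℂ u).symm)
    have hnorm : c * conj c = 1 := by
      rw [Complex.mul_conj, Complex.normSq_eq_norm_sq,
        Complex.norm_eq_one_of_pow_eq_one hm.2 hm.1.ne']
      simp
    rw [hval, map_mul, map_natCast]
    linear_combination ((Char.degree θ : ℂ) ^ 2) * hnorm
  have h := Char.classInner_irr_self θ.2
  rw [classInner, inv_mul_eq_iff_eq_mul₀ (Nat.cast_ne_zero.2 Nat.card_pos.ne'), mul_one,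
    ← sum_subset (subset_univ (rad (centralChar θ) hK)) fun v _ hv => by rw [hzero v hv, zero_mul],
    sum_congr rfl hsc, sum_const, nsmul_eq_mul] at h
  rw [mul_comm]
  exact_mod_cast h

theorem Kernel.degree_eq_of_centralChar {θ η : IrrCharacter X}
    (h : centralChar θ = centralChar η) : Char.degree θ = Char.degree η := by
  have h1 := hK.sq_degree_mul_card_rad θ
  have h2 := hK.sq_degree_mul_card_rad η
  rw [h] at h1
  have hpos : 0 < (rad (centralChar η) hK).card := by
    rcases Nat.eq_zero_or_pos (rad (centralChar η) hK).card with e | e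
    · rw [e, mul_zero] at h2; exact absurd h2.symm Nat.card_pos.ne'
    · exact e
  exact Nat.pow_left_injective two_ne_zero (Nat.eq_of_mul_eq_mul_right hpos (h1.trans h2.symm))

/-- A character is linear exactly when it is trivial on the centre. -/
theorem Kernel.degree_eq_one_of_centralChar {θ : IrrCharacter X} (h : centralChar θ = 1) :
    Char.degree θ = 1 := by
  classical
  have h1 := hK.sq_degree_mul_card_rad θ
  have hrad : rad (centralChar θ) hK = univ := by
    ext v
    simp [rad, h]
  rw [hrad, card_univ, ← Nat.card_eq_fintype_card, Nat.mul_eq_right Nat.card_pos.ne'] at h1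
  exact (Nat.pow_eq_one.1 h1).resolve_right two_ne_zero

theorem Kernel.sq_degree_le (θ : IrrCharacter X) :
    Char.degree θ ^ 2 * Nat.card (Subgroup.center X) ≤ Nat.card X := by
  classical
  rw [← hK.sq_degree_mul_card_rad θ]
  refine Nat.mul_le_mul_left _ ?_
  rw [← Nat.card_eq_finsetCard]
  refine Nat.card_le_card_of_injective (fun z => ⟨(z : X), ?_⟩) fun a b e => Subtype.ext
    (congrArg Subtype.val e :)
  simp only [rad, mem_filter, mem_univ, true_and]
  intro w
  rw [show (⟨w * z * w⁻¹ * (z : X)⁻¹, hK.comm_mem w z⟩ : Subgroup.center X) = 1 from Subtype.ext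
    (show w * z * w⁻¹ * (z : X)⁻¹ = 1 by
      rw [Subgroup.mem_center_iff.1 z.2 w, mul_inv_cancel_right, mul_inv_cancel]), map_one]

/-- The derived group is the centre. -/
theorem Kernel.commutator_eq : commutator X = Subgroup.center X := by
  refine le_antisymm (Subgroup.commutator_le.2 fun x _ y _ => hK.comm_mem x y) fun w hw => ?_
  rcases eq_or_ne w 1 with rfl | hw1
  · exact one_mem _
  obtain ⟨x, y, hxy⟩ := hK.nonab
  set c := x * y * x⁻¹ * y⁻¹ with hc
  have hcmem : c ∈ commutator X :=
    Subgroup.commutator_mem_commutator (Subgroup.mem_top x) (Subgroup.mem_top y)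
  have hc1 : c ≠ 1 := fun e => hxy (by rwa [hc, mul_inv_eq_one, mul_inv_eq_iff_eq_mul] at e)
  obtain ⟨g, rfl⟩ := hK.trans c w (hK.comm_mem x y) hc1 hw hw1
  have h1 : (commutator X).map (ρ g).toMonoidHom = commutator X :=
    Subgroup.characteristic_iff_map_eq.1 inferInstance _
  rw [← h1]
  exact Subgroup.mem_map_of_mem _ hcmem

theorem Kernel.centralChar_eq_one {θ : IrrCharacter X} (h : Char.degree θ = 1) :
    centralChar θ = 1 := by
  obtain ⟨lam, hl⟩ := Char.IsCharacter.exists_monoidHom (Char.irr_isCharacter θ)
    (by rw [Char.apply_one_eq_degree, h, Nat.cast_one])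
  refine MonoidHom.ext fun z => ?_
  have h1 := apply_central θ z
  have hker : lam.toHomUnits (z : X) = 1 :=
    MonoidHom.mem_ker.1 (Abelianization.commutator_subset_ker lam.toHomUnits
      (by rw [hK.commutator_eq]; exact z.2))
  rw [h, Nat.cast_one, mul_one, ← hl, ← MonoidHom.coe_toHomUnits lam, hker, Units.val_one] at h1
  exact h1.symm

theorem Kernel.exists_ne_one {θ : IrrCharacter X} (h : Char.degree θ ≠ 1) :
    ∃ z, centralChar θ z ≠ 1 := by
  by_contra hc
  push Not at hc
  exact h (hK.degree_eq_one_of_centralChar (MonoidHom.ext hc))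

open scoped Classical in
theorem Kernel.sum_centralChar {θ : IrrCharacter X} (h : Char.degree θ ≠ 1) :
    ∑ z : Subgroup.center X, centralChar θ z = 0 :=
  sum_hom_units_eq_zero (centralChar θ) fun e => h (hK.degree_eq_one_of_centralChar e)

/-- The squares of the degrees of the characters over a character of the centre. -/
theorem Kernel.sum_sq_fibre (θ₀ : IrrCharacter X) :
    open scoped Classical in
    ∑ θ ∈ univ.filter (fun θ : IrrCharacter X => centralChar θ = centralChar θ₀),
      Char.degree θ ^ 2 * Nat.card (Subgroup.center X) = Nat.card X := by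
  classical
  set Z := Subgroup.center X
  have hreg : ∀ z : Z, ∑ θ : IrrCharacter X,
      (Char.degree θ : ℂ) ^ 2 * (centralChar θ z * centralChar θ₀ z) =
        if z = 1 then (Nat.card X : ℂ) else 0 := by
    intro z
    have h := Char.sum_irr_degree_mul (z : X)
    simp only [Char.apply_one_eq_degree, apply_central, OneMemClass.coe_eq_one] at h
    have hl : ∀ θ : IrrCharacter X, (Char.degree θ : ℂ) ^ 2 * (centralChar θ z * centralChar θ₀ z) =
        (Char.degree θ : ℂ) * (centralChar θ z * Char.degree θ) * centralChar θ₀ z := fun θ => by ring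
    rw [sum_congr rfl fun θ _ => hl θ, ← sum_mul, h]
    by_cases hz : z = 1
    · rw [if_pos hz, hz, map_one, mul_one]
    · rw [if_neg hz, zero_mul]
  have hcol : ∀ θ : IrrCharacter X, ∑ z : Z, centralChar θ z * centralChar θ₀ z =
      if centralChar θ = centralChar θ₀ then (Nat.card Z : ℂ) else 0 := by
    intro θ
    split_ifs with he
    · rw [he, Nat.card_eq_fintype_card, ← card_univ, card_eq_sum_ones, Nat.cast_sum, Nat.cast_one]
      refine sum_congr rfl fun z _ => ?_
      rcases hK.centralChar_sq θ₀ z with e | e <;> rw [e] <;> norm_num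
    · refine sum_hom_units_eq_zero (centralChar θ * centralChar θ₀) fun e => he (MonoidHom.ext fun z => ?_)
      have h := DFunLike.congr_fun e z
      rw [MonoidHom.mul_apply, MonoidHom.one_apply] at h
      rcases hK.centralChar_sq θ₀ z with e' | e' <;> rw [e'] at h ⊢
      · linear_combination h
      · linear_combination -h
  have key : ∑ θ : IrrCharacter X, (Char.degree θ : ℂ) ^ 2 *
      ∑ z : Z, centralChar θ z * centralChar θ₀ z = (Nat.card X : ℂ) := by
    simp only [mul_sum]
    rw [sum_comm, sum_congr rfl fun z _ => hreg z, sum_ite_eq' univ (1 : Z), if_pos (mem_univ _)]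
  simp only [hcol, mul_ite, mul_zero, ← sum_filter] at key
  exact_mod_cast key

section Squares

variable (hsq : Nat.card X = Nat.card (Subgroup.center X) ^ 2)
include hsq

/-- Each involution has as many square roots as there are elements in the centre. -/
theorem Kernel.sq_eq_iff {u v : X} (hu : u * u ≠ 1) : v * v = u * u ↔ v * u⁻¹ ∈ Subgroup.center X := by
  classical
  set Z := Subgroup.center X
  constructor
  swap
  · intro h
    have hc := Subgroup.mem_center_iff.1 h u
    have h1 := (hK.center_iff _).1 h
    calc v * v = (v * u⁻¹) * u * ((v * u⁻¹) * u) := by simp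
      _ = (v * u⁻¹) * (v * u⁻¹) * (u * u) := by rw [show (v * u⁻¹) * u * ((v * u⁻¹) * u) =
            (v * u⁻¹) * (u * (v * u⁻¹)) * u by group, hc]; group
      _ = u * u := by rw [h1, one_mul]
  intro hv
  by_contra hn
  -- the square roots of a given element
  let F : X → Finset X := fun z => univ.filter fun x => x * x = z
  have hFeq : ∀ z, z ∈ Z → z ≠ 1 → (F z).card = (F (u * u)).card := by
    intro z hz hz1
    obtain ⟨g, hg⟩ := hK.trans _ _ (hK.sq_mem u) hu hz hz1
    refine (card_equiv (ρ g).toEquiv fun x => ?_).symm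
    simp only [F, mem_filter, mem_univ, true_and, MulEquiv.toEquiv_eq_coe, EquivLike.coe_coe,
      ← map_mul, ← hg, (ρ g).injective.eq_iff]
  set S := (univ.filter fun z : X => z ∈ Z).erase 1
  have hScard : S.card = Fintype.card E := by
    rw [card_erase_of_mem (by simp [one_mem]), ← Fintype.card_subtype, ← Nat.card_eq_fintype_card]
    have h : Nat.card Z = Fintype.card E + 1 := hK.card_center
    rw [h, Nat.add_sub_cancel]
  have hpart : (univ.filter fun x : X => x * x ≠ 1).card = Fintype.card E * (F (u * u)).card := by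
    rw [card_eq_sum_card_fiberwise (f := fun x : X => x * x) (t := S) fun x hx => by
      simp only [coe_filter, Set.mem_ofPred_eq] at hx
      simp [S, hx.2, hK.sq_mem x, Z]]
    rw [← hScard, ← smul_eq_mul, ← sum_const]
    refine sum_congr rfl fun z hz => ?_
    simp only [S, mem_erase, mem_filter, mem_univ, true_and] at hz
    rw [← hFeq z hz.2 hz.1]
    congr 1
    ext x
    simp only [F, mem_filter, mem_univ, true_and, and_iff_right_iff_imp]
    rintro rfl
    exact hz.1
  have hlow : 2 * Nat.card Z ≤ (F (u * u)).card := by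
    have hsub : (univ.filter fun x : X => x * u⁻¹ ∈ Z) ∪ (univ.filter fun x : X => x * v⁻¹ ∈ Z) ⊆
        F (u * u) := by
      intro x hx
      simp only [mem_union, mem_filter, mem_univ, true_and, F] at hx ⊢
      have key : ∀ w : X, x * w⁻¹ ∈ Z → x * x = w * w := by
        intro w h
        calc x * x = (x * w⁻¹) * w * ((x * w⁻¹) * w) := by simp
          _ = (x * w⁻¹) * (x * w⁻¹) * (w * w) := by
            rw [show (x * w⁻¹) * w * ((x * w⁻¹) * w) = (x * w⁻¹) * (w * (x * w⁻¹)) * w by group,
              Subgroup.mem_center_iff.1 h w]; group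
          _ = w * w := by rw [(hK.center_iff _).1 h, one_mul]
      rcases hx with h | h
      · exact key u h
      · rw [key v h, hv]
    refine le_trans (le_of_eq ?_) (card_le_card hsub)
    have hdis : Disjoint (univ.filter fun x : X => x * u⁻¹ ∈ Z)
        (univ.filter fun x : X => x * v⁻¹ ∈ Z) := by
      rw [disjoint_filter]
      intro x _ hxu hxv
      exact hn (by simpa [mul_assoc] using Z.mul_mem (Z.inv_mem hxv) hxu)
    have hcos : ∀ w : X, (univ.filter fun x : X => x * w⁻¹ ∈ Z).card = Nat.card Z := fun w => by
      rw [Nat.card_eq_fintype_card, Fintype.card_subtype]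
      exact card_equiv (Equiv.mulRight w⁻¹) fun x => by simp
    rw [card_union_of_disjoint hdis, hcos, hcos, two_mul]
  have htot : Nat.card Z + Fintype.card E * (F (u * u)).card = Nat.card X := by
    rw [← hpart, Nat.card_eq_fintype_card, Fintype.card_subtype,
      Nat.card_eq_fintype_card (α := X), ← card_univ, add_comm,
      ← card_filter_add_card_filter_not (s := (univ : Finset X)) (p := fun x => x * x ≠ 1)]
    congr 2
    exact filter_congr fun x _ => by rw [not_ne_iff]; exact hK.center_iff x
  have := hK.card_center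
  have h2 := Nat.mul_le_mul_left (Fintype.card E) hlow
  have hE : 0 < Fintype.card E := Fintype.card_pos
  rw [hsq] at htot
  change Nat.card Z = Fintype.card E + 1 at this
  rw [this] at htot h2
  nlinarith

/-- An element of order four is not conjugate to its inverse. -/
theorem Kernel.not_real {v : X} (hv : v ∉ Subgroup.center X) : ¬ IsConj v v⁻¹ := by
  intro hc
  obtain ⟨w, hw⟩ := isConj_iff.1 hc
  have hvv : v * v ≠ 1 := fun e => hv ((hK.center_iff v).2 e)
  have hww : w * w ≠ 1 := by
    intro e
    have h1 := Subgroup.mem_center_iff.1 ((hK.center_iff w).2 e) v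
    rw [← h1, mul_inv_cancel_right] at hw
    exact hvv (mul_eq_one_iff_eq_inv.2 hw)
  have hkey : w * v * (w * v) = w * w := by
    calc w * v * (w * v) = w * v * w⁻¹ * (w * w) * v := by group
      _ = w * w := by
        rw [hw, mul_assoc v⁻¹, ← Subgroup.mem_center_iff.1 (hK.sq_mem w) v, ← mul_assoc,
          inv_mul_cancel, one_mul]
  have h2 := (hK.sq_eq_iff hsq hww).1 hkey
  apply hv
  have h3 := (Subgroup.center X).mul_mem h2 (Subgroup.one_mem _)
  rw [mul_one] at h3
  have h4 := (inferInstance : (Subgroup.center X).Normal).conj_mem _ h3 w⁻¹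
  simpa [mul_assoc] using h4

/-- Only the linear characters are real. -/
theorem Kernel.degree_eq_one_of_real {θ : IrrCharacter X} (h : Char.conjIrr θ = θ) :
    Char.degree θ = 1 := by
  classical
  set R := univ.filter fun χ : IrrCharacter X => Char.conjIrr χ = χ
  have hreal : (R.card : ℂ) = Nat.card (Subgroup.center X) := by
    have h1 : ∀ χ : IrrCharacter X, (Nat.card X : ℂ)⁻¹ * ∑ g : X, χ.1 g * χ.1 g =
        if Char.conjIrr χ = χ then 1 else 0 := fun χ => by
      rw [Char.avg_sq_eq_classInner, Char.classInner_irr]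
      exact if_congr eq_comm rfl rfl
    have h2 : ∑ χ : IrrCharacter X, (Nat.card X : ℂ)⁻¹ * ∑ g : X, χ.1 g * χ.1 g = (R.card : ℂ) := by
      rw [sum_congr rfl fun χ _ => h1 χ, sum_boole]
    have h3 : ∀ g : X, ∑ χ : IrrCharacter X, χ.1 g * χ.1 g =
        if g ∈ Subgroup.center X then (Nat.card X : ℂ) else 0 := by
      intro g
      have hs := Char.sum_irr_mul_conj g g⁻¹
      have hcj : ∀ χ : IrrCharacter X, conj (χ.1 g⁻¹) = χ.1 g := fun χ => by
        rw [CharInt.char_inv (Char.irr_isCharacter χ) g, Complex.conj_conj]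
      simp only [hcj] at hs
      rw [hs]
      by_cases hg : g ∈ Subgroup.center X
      · have hgi : g⁻¹ = g := inv_eq_of_mul_eq_one_right ((hK.center_iff g).1 hg)
        rw [if_pos hg, hgi, if_pos (IsConj.refl g)]
        have hcen : Subgroup.centralizer ({g} : Set X) = ⊤ := by
          ext x
          simp [Subgroup.mem_centralizer_singleton_iff, Subgroup.mem_center_iff.1 hg x]
        rw [hcen, Subgroup.card_top]
      · rw [if_neg hg, if_neg (hK.not_real hsq hg)]
    rw [← h2, ← mul_sum, sum_comm, sum_congr rfl fun g _ => h3 g, ← sum_filter, sum_const,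
      nsmul_eq_mul, ← Fintype.card_subtype, ← Nat.card_eq_fintype_card, mul_comm,
      mul_assoc, mul_inv_cancel₀ (Nat.cast_ne_zero.2 Nat.card_pos.ne'), mul_one]
  set L := univ.filter fun χ : IrrCharacter X => Char.degree χ = 1
  have hLcard : L.card = Nat.card (Subgroup.center X) := by
    have h1 : L.card = (commutator X).index := by
      rw [← Char.card_linear, Nat.card_eq_fintype_card, Fintype.card_subtype]
      congr 1
      exact filter_congr fun χ _ => by rw [Char.apply_one_eq_degree, Nat.cast_eq_one]
    have h2 := (commutator X).card_mul_index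
    rw [h1]
    rw [hK.commutator_eq] at h2 ⊢
    rw [hsq, sq] at h2
    exact Nat.eq_of_mul_eq_mul_left Nat.card_pos h2
  have hsub : L ⊆ R := by
    intro χ hχ
    refine mem_filter.2 ⟨mem_univ _, ?_⟩
    obtain ⟨lam, hl⟩ := Char.IsCharacter.exists_monoidHom (Char.irr_isCharacter χ)
      (by rw [Char.apply_one_eq_degree, (mem_filter.1 hχ).2, Nat.cast_one])
    refine Subtype.ext (funext fun g => ?_)
    have hker : lam.toHomUnits (g * g) = 1 :=
      MonoidHom.mem_ker.1 (Abelianization.commutator_subset_ker lam.toHomUnits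
        (by rw [hK.commutator_eq]; exact hK.sq_mem g))
    have h1 : lam g * lam g = 1 := by
      rw [← map_mul, ← MonoidHom.coe_toHomUnits lam, hker, Units.val_one]
    rw [Char.conjIrr_apply, ← hl]
    rcases mul_self_eq_one_iff.1 h1 with e | e <;> simp [e]
  have heq : L = R := eq_of_subset_of_card_le hsub (le_of_eq (by rw [hLcard]; exact_mod_cast hreal))
  have : θ ∈ L := heq ▸ mem_filter.2 ⟨mem_univ _, h⟩
  exact (mem_filter.1 this).2

end Squares

end Cfsg.Agent.ZassenhausSuzuki
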