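import Mathlib
import Cfsg.Agent.Lib.ZassenhausFeit.OddKernel
import Cfsg.Agent.Lib.ZassenhausSuzuki.Characters

/-!
# The order of a kernel of Suzuki type

Let the kernel `K` be a Suzuki 2-group with centre of order `q = e + 1`, so `|K| = q ^ 2` or `q ^ 3`.
Every non-trivial linear character of `K` occurs exactly once in `q` real characters of `G`.  For
`|K| = q ^ 3` this forces a character which is constant on the derived group of `K`.  For
`|K| = q ^ 2` the degrees of the characters in question give divisors of `q ^ 2 + 1` which are only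
possible when `q = 2 f ^ 2`.
-/

set_option autoImplicit false
set_option linter.unusedSectionVars false
set_option linter.style.haveILetI false
set_option linter.unusedDecidableInType false

namespace Cfsg.Agent.ZassenhausSuzuki

open Finset Cfsg.Agent.ZassenhausFeit
open scoped ComplexConjugate

universe u

section Sets

variable {J : Type*} [DecidableEq J]

/-- Sets of size `q` meeting pairwise in `q - 1` points and having a common point form a sunflower
when there are more than `q` of them. -/
theorem sunflower (F : Finset (Finset J)) {q : ℕ} (hq : 2 ≤ q) (hcard : ∀ A ∈ F, A.card = q)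
    (hpair : ∀ A ∈ F, ∀ B ∈ F, A ≠ B → (A ∩ B).card = q - 1) {s : J} (hs : ∀ A ∈ F, s ∈ A)
    (hbig : q + 1 ≤ F.card) :
    ∃ C : Finset J, C.card = q - 1 ∧ ∀ A ∈ F, C ⊆ A := by
  obtain ⟨A, hA, B, hB, hAB⟩ := one_lt_card.1 (show 1 < F.card by omega)
  set C := A ∩ B with hC
  have hCcard : C.card = q - 1 := hpair A hA B hB hAB
  by_contra hcon
  push Not at hcon
  obtain ⟨D, hD, hCD⟩ := hcon C hCcard
  set U := A ∪ B with hU
  have hUcard : U.card = q + 1 := by
    have := card_union_add_card_inter A B
    rw [hcard A hA, hcard B hB, ← hC, hCcard, ← hU] at this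
    omega
  have hout : ∀ D ∈ F, ¬ C ⊆ D → D ⊆ U ∧ (D ∩ C).card < q - 1 := by
    intro D hD hCD
    have hlt : (D ∩ C).card < q - 1 := by
      rw [← hCcard]
      refine card_lt_card ⟨inter_subset_right, fun h => hCD fun x hx => (mem_inter.1 (h hx)).1⟩
    refine ⟨?_, hlt⟩
    have hmeet : ∀ T ∈ F, T ≠ D → C ⊆ T → (D ∩ T).card = (D ∩ C).card + (D ∩ (T \ C)).card ∧
        (D ∩ T).card = q - 1 := fun T hT hne hCT => by
      refine ⟨?_, hpair D hD T hT hne.symm⟩
      rw [← card_union_of_disjoint (disjoint_of_subset_left inter_subset_right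
        (disjoint_of_subset_right inter_subset_right disjoint_sdiff)), ← inter_union_distrib_left,
        union_sdiff_of_subset hCT]
    have hA' := hmeet A hA (fun e => hCD (e ▸ inter_subset_left)) inter_subset_left
    have hB' := hmeet B hB (fun e => hCD (e ▸ inter_subset_right)) inter_subset_right
    have hA1 : (A \ C).card = 1 := by
      rw [card_sdiff_of_subset inter_subset_left, hcard A hA, hCcard]; omega
    have hA2 := card_le_card (inter_subset_right (s₁ := D) (s₂ := A \ C))
    have hB1 : (B \ C).card = 1 := by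
      rw [card_sdiff_of_subset inter_subset_right, hcard B hB, hCcard]; omega
    have hB2 := card_le_card (inter_subset_right (s₁ := D) (s₂ := B \ C))
    have hUD : D ∩ U = (D ∩ C) ∪ ((D ∩ (A \ C)) ∪ (D ∩ (B \ C))) := by
      ext x
      simp only [hU, hC, mem_inter, mem_union, mem_sdiff]
      tauto
    have hd : (D ∩ U).card = (D ∩ C).card + ((D ∩ (A \ C)).card + (D ∩ (B \ C)).card) := by
      rw [hUD, card_union_of_disjoint, card_union_of_disjoint]
      · rw [disjoint_left]
        intro x hx hx'
        simp only [hC, mem_inter, mem_sdiff] at hx hx'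
        tauto
      · rw [disjoint_left]
        intro x hx hx'
        simp only [hC, mem_inter, mem_union, mem_sdiff] at hx hx'
        tauto
    have : D ∩ U = D := eq_of_subset_of_card_le inter_subset_left (by rw [hcard D hD]; omega)
    exact this ▸ inter_subset_right
  obtain ⟨hDU, hDC⟩ := hout D hD hCD
  have hall : ∀ T ∈ F, T ⊆ U := by
    intro T hT x hx
    by_cases hCT : C ⊆ T
    swap
    · exact (hout T hT hCT).1 hx
    by_contra hxU
    have hxC : x ∉ C := fun h => hxU (mem_union_left _ (mem_inter.1 h).1)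
    have hT' : T = insert x C := by
      refine (eq_of_subset_of_card_le (insert_subset hx hCT) ?_).symm
      rw [card_insert_of_notMem hxC, hCcard, hcard T hT]; omega
    have h1 := hpair D hD T hT fun e => hCD (e ▸ hCT)
    have h2 : D ∩ T ⊆ D ∩ C := by
      intro y hy
      rw [hT', mem_inter, mem_insert] at hy
      rcases hy.2 with rfl | h
      · exact absurd (hDU hy.1) hxU
      · exact mem_inter.2 ⟨hy.1, h⟩
    have := card_le_card h2
    omega
  have hsU : s ∈ U := mem_union_left _ (hs A hA)
  have hsub : F ⊆ (U.erase s).image fun x => U.erase x := by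
    intro T hT
    have h1 : (U \ T).card = 1 := by
      rw [card_sdiff_of_subset (hall T hT), hUcard, hcard T hT]; omega
    obtain ⟨x, hx⟩ := card_eq_one.1 h1
    have hxm : x ∈ U \ T := hx ▸ mem_singleton_self x
    rw [mem_sdiff] at hxm
    refine mem_image.2 ⟨x, mem_erase.2 ⟨fun e => hxm.2 (e ▸ hs T hT), hxm.1⟩, ?_⟩
    refine (eq_of_subset_of_card_le (fun y hy => mem_erase.2 ⟨fun e => hxm.2 (by rwa [e] at hy), hall T hT hy⟩)
      ?_).symm
    rw [card_erase_of_mem hxm.1, hUcard, hcard T hT]; omega
  have := (card_le_card hsub).trans card_image_le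
  rw [card_erase_of_mem hsU, hUcard] at this
  omega

end Sets

variable {G : Type u} [Group G] [Fintype G]
variable {K E : Subgroup G} [Fintype K] [Fintype E]

/-- A kernel of Suzuki type in a group with a Steinberg character. -/
structure Data (K E : Subgroup G) [Fintype K] [Fintype E] : Prop where
  setup : Setup K E
  kernel : Kernel (conjAct setup)
  sq_one : Char.sqRootCount (1 : G) = 1 + ((Nat.card K : ℂ) + 1) * Fintype.card E
  steinberg : ∃ S : IrrCharacter G, resMult K (Char.trivialChar K) S = 1 ∧
    (∀ θ, θ ≠ Char.trivialChar K → resMult K θ S = Char.degree θ) ∧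
    ∀ χ, resMult K (Char.trivialChar K) χ ≠ 0 → χ = Char.trivialChar G ∨ χ = S ∨
      (resMult K (Char.trivialChar K) χ = 2 ∧
        ∀ θ, θ ≠ Char.trivialChar K → resMult K θ χ = Char.degree θ)
  incoherent : ∀ χ : IrrCharacter G, (∀ k ∈ commutator K, χ.1 k = χ.1 1) → ∀ g, χ.1 g = χ.1 1

theorem resMult_twist (h : Setup K E) (g : E) (θ : IrrCharacter K) (χ : IrrCharacter G) :
    resMult K (twist (conjAct h) g θ) χ = resMult K θ χ := by
  have h1 := resMult_eq (twist (conjAct h) g θ) χ
  have h2 := resMult_eq θ χ
  rw [classInner] at h1 h2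
  have e : (resMult K (twist (conjAct h) g θ) χ : ℂ) = (resMult K θ χ : ℂ) := by
    rw [← h1, ← h2]
    congr 1
    refine Fintype.sum_equiv (conjAct h g).toEquiv _ _ fun x => ?_
    rw [twist_apply, MulEquiv.toEquiv_eq_coe, EquivLike.coe_coe, conjAct_coe]
    congr 1
    exact (Char.IsCharacter.isClassFunction (Char.irr_isCharacter χ) x g).symm
  exact_mod_cast e

theorem resMult_conjIrr (θ : IrrCharacter K) (χ : IrrCharacter G) :
    resMult K (Char.conjIrr θ) χ = resMult K θ (Char.conjIrr χ) := by
  rw [← classInner_conjIrr_conjIrr θ (Char.conjIrr χ), Char.conjIrr_conjIrr]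

variable (hD : Data K E)
include hD

theorem Data.odd_sqrt {k : G} (hk : k ∈ K) (hk1 : k ≠ 1) {u : G} (hu : u * u = k) : u ∈ K := by
  have hc : u⁻¹ * k * u = k := by rw [← hu]; group
  obtain ⟨x, hx, f, hf, rfl⟩ := hD.setup.ti u k hk hk1 (by rw [hc]; exact hk)
  have hcomm : Commute (x * f) k := by
    show x * f * k = k * (x * f)
    rw [← hu]; group
  rw [hD.setup.cent x hx f hf k hk hk1 hcomm, mul_one]
  exact hx

/-- The sum of the multiplicities weighted by Frobenius–Schur indicators. -/
theorem Data.sum_nu (θ : IrrCharacter K) :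
    ((∑ χ : IrrCharacter G, nu χ * (resMult K θ χ : ℤ) : ℤ) : ℂ) =
      (Fintype.card E : ℂ) * Char.degree θ + Char.fsIndicator θ.1 := by
  classical
  have hL : classInner (fun x : K => Char.sqRootCount (x : G)) θ.1 =
      ((∑ χ : IrrCharacter G, nu χ * (resMult K θ χ : ℤ) : ℤ) : ℂ) := by
    have e1 : (fun x : K => Char.sqRootCount (x : G)) =
        ∑ χ : IrrCharacter G, (nu χ : ℂ) • fun x : K => χ.1 x := by
      funext x
      rw [Char.sqRootCount_eq_sum]
      simp [nu_spec]
    rw [e1, Char.classInner_sum_left]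
    push_cast
    exact sum_congr rfl fun χ _ => by rw [Char.classInner_smul_left, resMult_eq]
  have hroot : ∀ x : K, x ≠ 1 → Char.sqRootCount (x : G) = Char.sqRootCount x := by
    intro x hx
    unfold Char.sqRootCount
    congr 1
    exact Nat.card_congr
      { toFun := fun u => ⟨⟨u.1, hD.odd_sqrt x.2 (fun e => hx (Subtype.ext e)) u.2⟩,
          Subtype.ext u.2⟩
        invFun := fun u => ⟨u.1, congrArg Subtype.val u.2⟩
        left_inv := fun u => rfl
        right_inv := fun u => rfl }
  have hone : Char.sqRootCount (1 : K) = (Fintype.card E : ℂ) + 1 := by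
    have h : Nat.card {u : K // u * u = 1} = Fintype.card E + 1 := by
      rw [← hD.kernel.card_center]
      exact Nat.card_congr (Equiv.subtypeEquivRight fun u => (hD.kernel.center_iff u).symm)
    rw [Char.sqRootCount, h]
    push_cast
    rfl
  have hne : (Nat.card K : ℂ) ≠ 0 := Nat.cast_ne_zero.2 Nat.card_pos.ne'
  have hval : ∀ x : K, Char.sqRootCount (x : G) * conj (θ.1 x) =
      Char.sqRootCount x * conj (θ.1 x) +
        if x = 1 then (Nat.card K : ℂ) * Fintype.card E * Char.degree θ else 0 := by
    intro x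
    by_cases hx : x = 1
    · subst hx
      rw [Subgroup.coe_one, hD.sq_one, hone, if_pos rfl, Char.apply_one_eq_degree, map_natCast]
      ring
    · rw [hroot x hx, if_neg hx, add_zero]
  rw [← hL, classInner, sum_congr rfl fun x _ => hval x, sum_add_distrib,
    sum_ite_eq' univ (1 : K), if_pos (mem_univ _), Char.sum_mul_eq_sum_sq,
    ← Char.conj_fsIndicator θ, Char.fsIndicator_eq_sum, map_mul, map_inv₀, map_natCast, map_sum]
  field_simp
  ring

theorem Data.card_linear : (univ.filter fun η : IrrCharacter K => Char.degree η = 1).card *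
    (Fintype.card E + 1) = Nat.card K := by
  classical
  have h1 : (univ.filter fun η : IrrCharacter K => Char.degree η = 1).card =
      (commutator K).index := by
    rw [← Char.card_linear, Nat.card_eq_fintype_card, Fintype.card_subtype]
    congr 1
    exact filter_congr fun χ _ => by rw [Char.apply_one_eq_degree, Nat.cast_eq_one]
  rw [h1, ← hD.kernel.card_center, mul_comm, hD.kernel.commutator_eq]
  exact (Subgroup.center K).card_mul_index

/-- A non-trivial linear character occurs once in each of `e + 1` characters of indicator one. -/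
theorem Data.linear_facts {η : IrrCharacter K} (hη : η ≠ Char.trivialChar K)
    (hd : Char.degree η = 1) :
    (∀ χ : IrrCharacter G, resMult K η χ ≠ 0 → resMult K η χ = 1 ∧ nu χ = 1) ∧
      (univ.filter fun χ : IrrCharacter G => resMult K η χ ≠ 0).card = Fintype.card E + 1 := by
  classical
  have hfs : Char.fsIndicator η.1 = 1 := by
    rw [Char.fsIndicator_eq_sum, sum_congr rfl (g := fun _ => (1 : ℂ)) fun g _ => ?_,
      sum_const, card_univ, nsmul_one, ← Nat.card_eq_fintype_card,
      inv_mul_cancel₀ (Nat.cast_ne_zero.2 Nat.card_pos.ne')]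
    have h := apply_central η ⟨g * g, hD.kernel.sq_mem g⟩
    rw [hD.kernel.centralChar_eq_one hd, hd, Nat.cast_one, mul_one] at h
    exact h
  have h1 : ∑ χ : IrrCharacter G, nu χ * (resMult K η χ : ℤ) = (Fintype.card E : ℤ) + 1 := by
    have h := hD.sum_nu η
    rw [hd, hfs, Nat.cast_one, mul_one] at h
    exact_mod_cast h
  have h2 : ∑ χ : IrrCharacter G, (resMult K η χ : ℤ) * resMult K η χ =
      (Fintype.card E : ℤ) + 1 := by
    rw [gram hD.setup hη hη, mult_self (free_conjAct hD.setup) hη, hd]
    push_cast
    ring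
  have hw : ∀ χ : IrrCharacter G, (resMult K η χ : ℤ) ^ 2 - nu χ * resMult K η χ = 0 := fun χ =>
    (sum_eq_zero_iff_of_nonneg fun χ _ => sub_nonneg.2 (nu_mul_le_sq χ _)).1
      (by rw [sum_sub_distrib, h1]; simp only [sq]; rw [h2, sub_self]) χ (mem_univ χ)
  have hval : ∀ χ : IrrCharacter G, resMult K η χ ≠ 0 → resMult K η χ = 1 ∧ nu χ = 1 := by
    intro χ hχ
    have h3 : (resMult K η χ : ℤ) * ((resMult K η χ : ℤ) - nu χ) = 0 := by
      rw [← hw χ]; ring
    have h4 := sub_eq_zero.1 ((mul_eq_zero.1 h3).resolve_left (by exact_mod_cast hχ))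
    have := nu_le_one χ
    constructor <;> omega
  refine ⟨hval, ?_⟩
  have h5 : ∀ χ : IrrCharacter G, (resMult K η χ : ℤ) * resMult K η χ =
      if resMult K η χ ≠ 0 then 1 else 0 := by
    intro χ
    split_ifs with hχ
    · rw [(hval χ hχ).1]; rfl
    · rw [not_ne_iff] at hχ; rw [hχ]; rfl
  rw [sum_congr rfl fun χ _ => h5 χ, sum_boole] at h2
  exact_mod_cast h2

omit hD in
theorem not_const {η : IrrCharacter K} {χ : IrrCharacter G} (hη : η ≠ Char.trivialChar K)
    (hm : resMult K η χ ≠ 0) : ¬ ∀ g, χ.1 g = χ.1 1 := by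
  intro hc
  have h := resMult_eq η χ
  rw [show (fun x : K => χ.1 x) = χ.1 1 • (Char.trivialChar K).1 from funext fun x => by
      rw [hc, Pi.smul_apply, Char.trivialChar_apply, smul_eq_mul, mul_one],
    Char.classInner_smul_left,
    Char.classInner_irr_of_ne (Char.trivialChar K).2 η.2 fun e => hη (Subtype.ext e.symm),
    mul_zero] at h
  exact hm (by exact_mod_cast h.symm)

/-- `|K|` is not the cube of the order of its centre. -/
theorem Data.not_cube : Nat.card K ≠ (Fintype.card E + 1) ^ 3 := by
  classical
  intro hcube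
  set e := Fintype.card E with he
  have he0 : 0 < e := Fintype.card_pos
  have hfree := free_conjAct hD.setup
  set one := Char.trivialChar K with hone
  obtain ⟨S, hS1, hSθ, -⟩ := hD.steinberg
  set L := (univ.filter fun η : IrrCharacter K => Char.degree η = 1).erase one with hL
  have hLspec : ∀ η ∈ L, η ≠ one ∧ Char.degree η = 1 := fun η hη => by
    rw [hL, mem_erase, mem_filter] at hη
    exact ⟨hη.1, hη.2.2⟩
  set R := fun η : IrrCharacter K => univ.filter fun χ : IrrCharacter G => resMult K η χ ≠ 0 with hR
  have hRsum : ∀ η ∈ L, ∀ θ : IrrCharacter K,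
      ∑ χ : IrrCharacter G, (resMult K η χ : ℤ) * resMult K θ χ =
        ∑ χ ∈ R η, (resMult K θ χ : ℤ) := by
    intro η hη θ
    rw [sum_filter]
    refine sum_congr rfl fun χ _ => ?_
    split_ifs with h
    · rw [((hD.linear_facts (hLspec η hη).1 (hLspec η hη).2).1 χ h).1, Nat.cast_one, one_mul]
    · rw [not_ne_iff.1 h, Nat.cast_zero, zero_mul]
  have hinter : ∀ η ∈ L, ∀ η' ∈ L, ((R η ∩ R η').card : ℤ) =
      (e : ℤ) + mult (conjAct hD.setup) η η' := by
    intro η hη η' hη'
    obtain ⟨h1, hd1⟩ := hLspec η hη
    obtain ⟨h2, hd2⟩ := hLspec η' hη'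
    have h := gram hD.setup h1 h2
    rw [hRsum η hη, hd1, hd2, Nat.cast_one, mul_one, mul_one] at h
    rw [he, ← h, ← filter_mem_eq_inter, card_filter, Nat.cast_sum]
    refine sum_congr rfl fun χ _ => ?_
    simp only [hR, mem_filter, mem_univ, true_and]
    split_ifs with hh
    · rw [((hD.linear_facts h2 hd2).1 χ hh).1]
    · rw [not_ne_iff.1 hh]
  set F := L.image R with hF
  have hFcard : ∀ A ∈ F, A.card = e + 1 := by
    intro A hA
    obtain ⟨η, hη, rfl⟩ := mem_image.1 hA
    exact (hD.linear_facts (hLspec η hη).1 (hLspec η hη).2).2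
  have hFpair : ∀ A ∈ F, ∀ B ∈ F, A ≠ B → (A ∩ B).card = e + 1 - 1 := by
    intro A hA B hB hAB
    obtain ⟨η, hη, rfl⟩ := mem_image.1 hA
    obtain ⟨η', hη', rfl⟩ := mem_image.1 hB
    have h := hinter η hη η' hη'
    have hle := mult_le_one hfree (hLspec η hη).1 η'
    rcases Nat.eq_zero_or_pos (mult (conjAct hD.setup) η η') with h0 | h0
    · rw [h0] at h; push_cast at h; omega
    · exfalso
      apply hAB
      have h1 : (R η ∩ R η').card = e + 1 := by omega
      have e1 := eq_of_subset_of_card_le (inter_subset_left : R η ∩ R η' ⊆ R η)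
        (by rw [h1, hFcard _ hA])
      have e2 := eq_of_subset_of_card_le (inter_subset_right : R η ∩ R η' ⊆ R η')
        (by rw [h1, hFcard _ hB])
      exact e1.symm.trans e2
  have hFS : ∀ A ∈ F, S ∈ A := by
    intro A hA
    obtain ⟨η, hη, rfl⟩ := mem_image.1 hA
    refine mem_filter.2 ⟨mem_univ _, ?_⟩
    rw [hSθ η (hLspec η hη).1, (hLspec η hη).2]
    exact one_ne_zero
  have hbig : e + 1 + 1 ≤ F.card := by
    have hfib : ∀ A ∈ F, (L.filter fun η => R η = A).card ≤ e := by
      intro A hA
      obtain ⟨η₀, hη₀, rfl⟩ := mem_image.1 hA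
      rw [he, ← card_mult_ne_zero hfree (hLspec η₀ hη₀).1]
      refine card_le_card fun η hη => mem_filter.2 ⟨mem_univ _, ?_⟩
      rw [mem_filter] at hη
      have h := hinter η₀ hη₀ η hη.1
      rw [hη.2, inter_self, hFcard _ hA] at h
      push_cast at h
      omega
    have h1 : L.card ≤ F.card * e := by
      rw [card_eq_sum_card_fiberwise (f := R) (t := F) fun η hη => mem_image_of_mem R hη,
        ← smul_eq_mul, ← sum_const]
      exact sum_le_sum hfib
    have h2 : L.card + 1 = (e + 1) ^ 2 := by
      rw [hL, card_erase_add_one (show one ∈ univ.filter fun η : IrrCharacter K => Char.degree η = 1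
        from mem_filter.2 ⟨mem_univ _, degree_trivial⟩)]
      have h := hD.card_linear
      rw [hcube, ← he, pow_succ] at h
      exact Nat.eq_of_mul_eq_mul_right (by omega) h
    have h3 : (e + 2) * e ≤ F.card * e := by
      have : (e + 1) ^ 2 = (e + 2) * e + 1 := by ring
      omega
    have := Nat.le_of_mul_le_mul_right h3 he0
    omega
  obtain ⟨C, hC, hCF⟩ := sunflower F (q := e + 1) (by omega) hFcard hFpair hFS hbig
  rw [Nat.add_sub_cancel] at hC
  have hpetal : ∀ A ∈ F, ∃ x, x ∉ C ∧ A = insert x C := by
    intro A hA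
    have h1 : (A \ C).card = 1 := by
      rw [card_sdiff_of_subset (hCF A hA), hFcard A hA, hC]; omega
    obtain ⟨x, hx⟩ := card_eq_one.1 h1
    refine ⟨x, fun hxC => ?_, ?_⟩
    · have : x ∈ A \ C := hx ▸ mem_singleton_self x
      exact (mem_sdiff.1 this).2 hxC
    · rw [insert_eq, ← hx, sdiff_union_of_subset (hCF A hA)]
  haveI : Nonempty (IrrCharacter G) := ⟨Char.trivialChar G⟩
  choose! pet hpetC hpet using hpetal
  set P := F.image pet with hP
  have hPcard : P.card = F.card := card_image_of_injOn fun A hA B hB hAB => by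
    rw [hpet A hA, hpet B hB]; exact congrArg (fun y => insert y C) hAB
  have hPC : Disjoint P C := by
    rw [disjoint_left]
    intro x hx
    obtain ⟨A, hA, rfl⟩ := mem_image.1 hx
    exact hpetC A hA
  have hν : ∀ x ∈ P ∪ C, nu x = 1 := by
    intro x hx
    obtain ⟨A, hA, hxA⟩ : ∃ A ∈ F, x ∈ A := by
      rcases mem_union.1 hx with h | h
      · obtain ⟨A, hA, rfl⟩ := mem_image.1 h
        refine ⟨A, hA, ?_⟩
        have := mem_insert_self (pet A) C
        rwa [← hpet A hA] at this
      · obtain ⟨A, hA⟩ := card_pos.1 (show 0 < F.card by omega)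
        exact ⟨A, hA, hCF A hA h⟩
    obtain ⟨η, hη, rfl⟩ := mem_image.1 hA
    exact ((hD.linear_facts (hLspec η hη).1 (hLspec η hη).2).1 x (mem_filter.1 hxA).2).2
  have hzero : ∀ σ : IrrCharacter K, Char.degree σ ≠ 1 → ∀ x ∈ P, resMult K σ x = 0 := by
    intro σ hσ
    have hσ1 : σ ≠ one := fun e' => hσ (by rw [e', hone, degree_trivial])
    set f := Char.degree σ with hf
    set k := fun χ => (resMult K σ χ : ℤ) with hk
    -- the common multiplicity on the petals
    have hcon : ∀ A ∈ F, ∑ x ∈ C, k x + k (pet A) = (e : ℤ) * f := by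
      intro A hA
      obtain ⟨η, hη, rfl⟩ := mem_image.1 hA
      obtain ⟨h1, hd1⟩ := hLspec η hη
      have h := gram hD.setup h1 hσ1
      rw [hRsum η hη, hd1, mult_eq_zero_of_degree (by rw [hd1]; exact Ne.symm hσ)] at h
      push_cast at h
      rw [hpet _ hA, sum_insert (hpetC _ hA)] at h
      simp only [hk]
      linarith
    set c := (e : ℤ) * f - ∑ x ∈ C, k x with hc
    have hkc : ∀ x ∈ P, k x = c := fun x hx => by
      obtain ⟨A, hA, rfl⟩ := mem_image.1 hx
      have := hcon A hA
      linarith
    suffices h0 : c = 0 by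
      intro x hx
      have := hkc x hx
      rw [h0] at this
      simp only [hk] at this
      exact_mod_cast this
    have hc0 : 0 ≤ c := by
      obtain ⟨x, hx⟩ := card_pos.1 (show 0 < P.card by omega)
      rw [← hkc x hx]
      exact Int.natCast_nonneg _
    -- the indicator of `σ` is not positive
    have hνσ : ∑ χ, nu χ * k χ ≤ (e : ℤ) * f := by
      have h := hD.sum_nu σ
      set Z := Subgroup.center K with hZ
      have hqK : (Nat.card K : ℂ) = ((e : ℂ) + 1) ^ 3 := by rw [hcube]; push_cast; ring
      have hsum : (e : ℂ) * ∑ u : K, σ.1 (u * u) =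
          (f : ℂ) * (((e : ℂ) + 1) * e - ((Nat.card K : ℂ) - ((e : ℂ) + 1))) := by
        have hbij : ∀ u : K, u * u ≠ 1 →
            ∑ g : E, σ.1 (conjAct hD.setup g (u * u)) = - (f : ℂ) := by
          intro u hu
          have hinj : Function.Injective fun g : E =>
              (⟨conjAct hD.setup g (u * u), by
                rw [hD.kernel.center_iff, ← map_mul,
                  (hD.kernel.center_iff _).1 (hD.kernel.sq_mem u), map_one]⟩ : Z) := by
            intro g g' hgg
            have hgg' : conjAct hD.setup g (u * u) = conjAct hD.setup g' (u * u) :=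
              congrArg Subtype.val hgg
            by_contra hne
            refine hfree (g'⁻¹ * g) (fun e' => hne (inv_mul_eq_one.1 e').symm) _ hu ?_
            rw [map_mul (conjAct hD.setup), MulAut.mul_apply, hgg', ← MulAut.mul_apply,
              ← map_mul (conjAct hD.setup), inv_mul_cancel, map_one]
            exact IsConj.refl _
          have himg : (univ.image fun g : E =>
              (⟨conjAct hD.setup g (u * u), by
                rw [hD.kernel.center_iff, ← map_mul,
                  (hD.kernel.center_iff _).1 (hD.kernel.sq_mem u), map_one]⟩ : Z)) =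
              univ.erase 1 := by
            refine eq_of_subset_of_card_le (fun z hz => mem_erase.2 ⟨?_, mem_univ _⟩) ?_
            · obtain ⟨g, -, rfl⟩ := mem_image.1 hz
              intro e'
              exact hu ((map_eq_one_iff _ (conjAct hD.setup g).injective).1
                (congrArg Subtype.val e'))
            · rw [card_image_of_injective _ hinj, card_erase_of_mem (mem_univ _), card_univ,
                card_univ, ← Nat.card_eq_fintype_card, hD.kernel.card_center]
              omega
          have h1 : ∑ z : Z, centralChar σ z = 0 := by convert hD.kernel.sum_centralChar hσ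
          rw [← add_sum_erase _ _ (mem_univ (1 : Z)), map_one, ← himg,
            sum_image fun a _ b _ h' => hinj h'] at h1
          rw [sum_congr rfl fun g _ => apply_central σ ⟨conjAct hD.setup g (u * u), by
            rw [hD.kernel.center_iff, ← map_mul,
              (hD.kernel.center_iff _).1 (hD.kernel.sq_mem u), map_one]⟩, ← sum_mul]
          linear_combination (f : ℂ) * h1
        have hav : ∀ g : E, ∑ u : K, σ.1 (conjAct hD.setup g (u * u)) = ∑ u : K, σ.1 (u * u) :=
          fun g => Fintype.sum_equiv (conjAct hD.setup g).toEquiv _ _ fun u => by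
            simp [map_mul]
        have h2 : (e : ℂ) * ∑ u : K, σ.1 (u * u) =
            ∑ u : K, ∑ g : E, σ.1 (conjAct hD.setup g (u * u)) := by
          rw [sum_comm, sum_congr rfl fun g _ => hav g, sum_const, card_univ, nsmul_eq_mul, he]
        rw [h2, ← sum_filter_add_sum_filter_not univ (fun u : K => u * u = 1),
          sum_congr rfl (s₁ := univ.filter fun u : K => ¬ u * u = 1)
            (g := fun _ => -(f : ℂ)) fun u hu => hbij u (mem_filter.1 hu).2,
          sum_congr rfl (s₁ := univ.filter fun u : K => u * u = 1)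
            (g := fun _ => (e : ℂ) * f) fun u hu => by
              rw [(mem_filter.1 hu).2]
              simp [Char.apply_one_eq_degree, hf, he],
          sum_const, sum_const, nsmul_eq_mul, nsmul_eq_mul]
        have hA : (univ.filter fun u : K => u * u = 1).card = e + 1 := by
          rw [he, ← hD.kernel.card_center, Nat.card_eq_fintype_card, Fintype.card_subtype]
          congr 1
          exact filter_congr fun u _ => (hD.kernel.center_iff u).symm
        have hB := card_filter_add_card_filter_not (s := (univ : Finset K))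
          (p := fun u : K => u * u = 1)
        rw [hA, card_univ, ← Nat.card_eq_fintype_card] at hB
        rw [hA, ← hB]
        push_cast
        ring
      rw [Char.fsIndicator_eq_sum] at h
      have h3 : ((∑ χ, nu χ * k χ - (e : ℤ) * f : ℤ) : ℂ) * ((e : ℂ) + 1) = -(f : ℂ) := by
        push_cast at h ⊢
        have hne : (e : ℂ) ≠ 0 := by exact_mod_cast he0.ne'
        have hne' : (e : ℂ) + 1 ≠ 0 := by exact_mod_cast e.succ_ne_zero
        have h4 : ∑ u : K, σ.1 (u * u) =
            (f : ℂ) * (((e : ℂ) + 1) * e - ((Nat.card K : ℂ) - ((e : ℂ) + 1))) / e := by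
          rw [eq_div_iff hne, mul_comm, hsum]
        rw [hqK] at h4
        rw [h4, hqK] at h
        simp only [hk]
        push_cast
        rw [h, ← he, ← hf]
        field_simp
        ring
      have h5 : (∑ χ, nu χ * k χ - (e : ℤ) * f) * ((e : ℤ) + 1) = -(f : ℤ) := by exact_mod_cast h3
      have := Int.natCast_nonneg f
      nlinarith
    have hgram : ∑ χ, k χ * k χ = (e : ℤ) * f * f + 1 := by
      simp only [hk]
      rw [gram hD.setup hσ1 hσ1, mult_self hfree hσ1]
      push_cast; ring
    set O := univ \ (P ∪ C) with hO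
    have hsplit : ∀ φ : IrrCharacter G → ℤ,
        ∑ x, φ x = ∑ x ∈ O, φ x + (∑ x ∈ P, φ x + ∑ x ∈ C, φ x) := fun φ => by
      rw [← sum_sdiff (subset_univ (P ∪ C)), sum_union hPC]
    have hPc : ∑ x ∈ P, k x = (F.card : ℤ) * c := by
      rw [sum_congr rfl hkc, sum_const, nsmul_eq_mul, hPcard]
    have hPc2 : ∑ x ∈ P, k x * k x = (F.card : ℤ) * (c * c) := by
      rw [sum_congr rfl fun x hx => by rw [hkc x hx], sum_const, nsmul_eq_mul, hPcard]
    have hCc : ∑ x ∈ C, k x = (e : ℤ) * f - c := by rw [hc]; ring
    have hOν : ∑ x ∈ O, nu x * k x ≤ c - (F.card : ℤ) * c := by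
      have h := hsplit fun x => nu x * k x
      rw [sum_congr (s₁ := P) rfl fun x hx => by rw [hν x (mem_union_left _ hx), one_mul],
        sum_congr (s₁ := C) rfl fun x hx => by rw [hν x (mem_union_right _ hx), one_mul],
        hPc, hCc] at h
      linarith
    have hOsq : (F.card : ℤ) * c - c ≤ ∑ x ∈ O, k x * k x := by
      refine le_trans (show _ ≤ ∑ x ∈ O, -(nu x * k x) by rw [sum_neg_distrib]; linarith)
        (sum_le_sum fun x _ => ?_)
      have h1 : -1 ≤ nu x := by
        unfold nu
        split_ifs <;> norm_num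
      have h2 : (0 : ℤ) ≤ k x := Int.natCast_nonneg _
      rcases h2.eq_or_lt with h2 | h2
      · rw [← h2]; simp
      · nlinarith
    have hCsq : ((e : ℤ) * f - c) ^ 2 ≤ (e : ℤ) * ∑ x ∈ C, k x * k x := by
      have := sq_sum_le_card_mul_sum_sq (s := C) (f := k)
      rw [hCc, hC] at this
      simpa only [sq] using this
    have htot := hsplit fun x => k x * k x
    rw [hgram, hPc2] at htot
    have hfle : (f : ℤ) ≤ e + 1 := by
      have h1 := hD.kernel.sq_degree_le σ
      rw [hD.kernel.card_center, hcube, ← he, ← hf, pow_succ _ 2] at h1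
      have h2 := Nat.le_of_mul_le_mul_right h1 (Nat.succ_pos e)
      exact_mod_cast (Nat.pow_le_pow_iff_left two_ne_zero).1 h2
    by_contra hcne
    have hc1 : 1 ≤ c := by omega
    have hr : (e : ℤ) + 2 ≤ F.card := by exact_mod_cast hbig
    have hX : 1 ≤ (F.card : ℤ) * c + F.card - 1 - 2 * f := by
      have : (F.card : ℤ) ≤ (F.card : ℤ) * c := le_mul_of_one_le_right (by omega) hc1
      omega
    have h6 := mul_le_mul hc1 hX zero_le_one hc0
    have he0' : (0 : ℤ) ≤ e := Int.natCast_nonneg e
    nlinarith [mul_le_mul_of_nonneg_left hOsq he0', mul_le_mul_of_nonneg_left h6 he0']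
  obtain ⟨A, hA⟩ := card_pos.1 (show 0 < F.card by omega)
  have hxP : pet A ∈ P := mem_image_of_mem pet hA
  have hmem : pet A ∈ A := by
    have := mem_insert_self (pet A) C
    rwa [← hpet A hA] at this
  obtain ⟨η, hη, rfl⟩ := mem_image.1 hA
  refine not_const (hLspec η hη).1 (mem_filter.1 hmem).2 (hD.incoherent _ fun k hk => ?_)
  have h1 := apply_eq_sum_resMult (K := K) (pet (R η)) k
  have h2 := apply_eq_sum_resMult (K := K) (pet (R η)) 1
  rw [Subgroup.coe_one] at h2
  rw [h1, h2]
  refine sum_congr rfl fun θ _ => ?_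
  by_cases hθd : Char.degree θ = 1
  · rw [hD.kernel.commutator_eq] at hk
    have h3 := apply_central θ ⟨k, hk⟩
    rw [hD.kernel.centralChar_eq_one hθd, MonoidHom.one_apply, one_mul] at h3
    rw [Char.apply_one_eq_degree θ, h3]
  · rw [hzero θ hθd _ hxP, Nat.cast_zero, zero_mul, zero_mul]

end Cfsg.Agent.ZassenhausSuzuki
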