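import Mathlib
import Cfsg.Agent.Lib.ZassenhausSuzuki.Degree

/-!
# A kernel of order `q ^ 2` forces `q = 2 f ^ 2`

The characters of `K` over one non-trivial character of the centre all have the same degree `f`,
there are `R` of them with `f ^ 2 R = q`, and none is real.  If `R ≥ 4` some character of `G` has
degree `e (1 + f R k)` with `f ≤ k ≤ 2 f`, and `1 + f R k` divides `q ^ 2 + 1`, which is impossible.
-/

set_option autoImplicit false
set_option linter.unusedSectionVars false
set_option linter.style.haveILetI false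
set_option linter.unusedDecidableInType false

namespace Cfsg.Agent.ZassenhausSuzuki

open Finset Cfsg.Agent.ZassenhausFeit
open scoped ComplexConjugate

universe u

section Arith

/-- `1 + L k` does not divide `q ^ 2 + 1` when `q = f L`, `4 f ≤ L` and `f ≤ k ≤ 2 f`. -/
theorem not_dvd_sq_add_one {q f L k : ℕ} (hf : 0 < f) (hq : q = f * L) (hL : 4 * f ≤ L)
    (hk : f ≤ k) (hk' : k ≤ 2 * f) : ¬ 1 + L * k ∣ q ^ 2 + 1 := by
  rintro ⟨y, hy⟩
  have hy0 : 0 < y := by
    rcases Nat.eq_zero_or_pos y with h | h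
    · rw [h, mul_zero] at hy; omega
    · exact h
  set b : ℤ := (q : ℤ) * f - k * y with hb
  have hy' : (q : ℤ) ^ 2 + 1 = (1 + (L : ℤ) * k) * y := by exact_mod_cast hy
  have hq' : (q : ℤ) = f * L := by exact_mod_cast hq
  have hyb : (y : ℤ) = 1 + L * b := by
    rw [hb, hq']; rw [hq'] at hy'; linarith
  have hLpos : (0 : ℤ) < L := by omega
  have hb0 : 0 ≤ b := by
    by_contra hneg
    push Not at hneg
    have : (L : ℤ) * b ≤ L * (-1) := mul_le_mul_of_nonneg_left (by omega) hLpos.le
    have : (0 : ℤ) < y := by exact_mod_cast hy0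
    omega
  set s : ℤ := (f : ℤ) * f - k * b with hs
  have hsum : (k : ℤ) + b = L * s := by
    have : b = (q : ℤ) * f - k * (1 + L * b) := by rw [← hyb]
    rw [hs]
    rw [hq'] at this
    linarith
  have hkpos : (0 : ℤ) < k := by omega
  have hs1 : 1 ≤ s := by
    by_contra hneg
    push Not at hneg
    have : (L : ℤ) * s ≤ 0 := mul_nonpos_of_nonneg_of_nonpos hLpos.le (by omega)
    omega
  have hbf : b < f := by
    by_contra hge
    push Not at hge
    have : (f : ℤ) * f ≤ k * b := mul_le_mul (by omega) hge (by omega) hkpos.le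
    omega
  have : (L : ℤ) ≤ L * s := le_mul_of_one_le_right hLpos.le hs1
  omega

end Arith

variable {G : Type u} [Group G] [Fintype G]
variable {K E : Subgroup G} [Fintype K] [Fintype E]

theorem Data.centralChar_conjIrr (hD : Data K E) (θ : IrrCharacter K) :
    centralChar (Char.conjIrr θ) = centralChar θ := by
  refine MonoidHom.ext fun z => ?_
  have h1 := apply_central (Char.conjIrr θ) z
  rw [Char.conjIrr_apply, apply_central, degree_conjIrr, map_mul, map_natCast] at h1
  have h2 := mul_right_cancel₀ (Nat.cast_ne_zero.2 (Char.degree_pos θ).ne') h1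
  rw [← h2]
  rcases hD.kernel.centralChar_sq θ z with e | e <;> simp [e]

/-- Characters over the same non-trivial character of the centre are in different orbits. -/
theorem Data.eq_one_of_twist (hD : Data K E) {θ η : IrrCharacter K} (hθ : Char.degree θ ≠ 1)
    (hc : centralChar η = centralChar θ) {g : E}
    (hg : twist (conjAct hD.setup) g θ = η) : g = 1 := by
  classical
  letI := Fintype.ofFinite (Subgroup.center K)
  have hinv : ∀ e : E, ∀ x ∈ Subgroup.center K, conjAct hD.setup e x ∈ Subgroup.center K :=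
    fun e x hx => by rw [hD.kernel.center_iff] at hx ⊢; rw [← map_mul, hx, map_one]
  have hfr := free_restrictAct (free_conjAct hD.setup) (Subgroup.center K) hinv
  have hne : centralChar θ ≠ 1 := fun e => hθ (hD.kernel.degree_eq_one_of_centralChar e)
  refine eq_one_of_twist_eq hfr (θ := Char.linIrr (centralChar θ))
    (fun e => hne (Char.linIrr_injective (e.trans (Subtype.ext rfl)))) ?_
  refine Subtype.ext (funext fun z => ?_)
  rw [twist_apply, Char.linIrr_apply, Char.linIrr_apply]
  have h1 := apply_central η z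
  rw [← hg, twist_apply, degree_twist,
    show conjAct hD.setup g (z : K) =
      ((restrictAct (conjAct hD.setup) (Subgroup.center K) hinv g z : Subgroup.center K) : K)
      from rfl, apply_central, hg, hc] at h1
  exact mul_right_cancel₀ (Nat.cast_ne_zero.2 (Char.degree_pos θ).ne') h1

/-- Two multiplicities on distinct orbits over one central character agree at real characters. -/
theorem Data.resMult_eq_of_real (hD : Data K E) (hsq : Nat.card K = (Fintype.card E + 1) ^ 2)
    {σ τ : IrrCharacter K} (hσ : Char.degree σ ≠ 1) (hc : centralChar τ = centralChar σ)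
    {χ : IrrCharacter G} (hχ : Char.conjIrr χ = χ) : resMult K τ χ = resMult K σ χ := by
  classical
  by_cases h1 : τ = σ
  · rw [h1]
  by_cases h2 : τ = Char.conjIrr σ
  · rw [h2, resMult_conjIrr, hχ]
  have hsq' : Nat.card K = Nat.card (Subgroup.center K) ^ 2 := by rw [hD.kernel.card_center, hsq]
  have hfree := free_conjAct hD.setup
  set f := Char.degree σ with hf
  have hτd : Char.degree τ = f := hD.kernel.degree_eq_of_centralChar hc
  have hσ1 : σ ≠ Char.trivialChar K := fun e => hσ (by rw [hf, e, degree_trivial])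
  have hτ1 : τ ≠ Char.trivialChar K := fun e => hσ (by rw [← hτd, e, degree_trivial])
  have hσc1 := conjIrr_ne_trivial hσ1
  have hτc1 := conjIrr_ne_trivial hτ1
  have hzero : ∀ {α β : IrrCharacter K}, centralChar α = centralChar σ →
      centralChar β = centralChar σ → Char.degree α = f → α ≠ β →
      mult (conjAct hD.setup) α β = 0 := by
    intro α β hα hβ hαd hne
    by_contra hm
    obtain ⟨g, hg⟩ := exists_of_mult_ne_zero hm
    rw [hD.eq_one_of_twist (by rw [hαd]; exact hσ) (hβ.trans hα.symm) hg, twist_one] at hg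
    exact hne hg
  have hσreal : Char.conjIrr σ ≠ σ := fun e => hσ (hD.kernel.degree_eq_one_of_real hsq' e)
  have hτreal : Char.conjIrr τ ≠ τ := fun e => hσ (hτd ▸ hD.kernel.degree_eq_one_of_real hsq' e)
  have hcc := hD.centralChar_conjIrr σ
  have hcc' := (hD.centralChar_conjIrr τ).trans hc
  have h2' : Char.conjIrr τ ≠ σ := fun e => h2 (by rw [← e, Char.conjIrr_conjIrr])
  set u := fun x => (resMult K σ x : ℤ) - resMult K τ x with hu
  have hgram : ∑ x, u x * u x = 2 := by
    simp only [hu, sub_mul, mul_sub, sum_sub_distrib]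
    rw [gram hD.setup hσ1 hσ1, gram hD.setup hσ1 hτ1, gram hD.setup hτ1 hσ1,
      gram hD.setup hτ1 hτ1, mult_self hfree hσ1, mult_self hfree hτ1,
      hzero rfl hc rfl (Ne.symm h1), hzero hc rfl hτd h1, hτd]
    push_cast; ring
  have hgram' : ∑ x, u x * u (Char.conjIrr x) = 0 := by
    simp only [hu, ← resMult_conjIrr, sub_mul, mul_sub, sum_sub_distrib]
    rw [gram hD.setup hσ1 hσc1, gram hD.setup hσ1 hτc1, gram hD.setup hτ1 hσc1,
      gram hD.setup hτ1 hτc1, hzero rfl hcc rfl hσreal.symm, hzero rfl hcc' rfl h2'.symm,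
      hzero hc hcc hτd h2, hzero hc hcc' hτd hτreal.symm, degree_conjIrr, degree_conjIrr, hτd]
    push_cast; ring
  by_contra hne
  have hu0 : u χ ≠ 0 := by
    simp only [hu, sub_ne_zero]
    exact fun e => hne (by exact_mod_cast e.symm)
  have hle : ∀ x, u x * u x ≤ 2 := fun x =>
    hgram ▸ single_le_sum (f := fun x => u x * u x) (fun y _ => mul_self_nonneg _) (mem_univ x)
  have hone : ∀ x, u x ≠ 0 → u x * u x = 1 := fun x hx => by
    have := hle x
    have h3 : u x ≤ 1 := by nlinarith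
    have h4 : -1 ≤ u x := by nlinarith
    rcases (show u x = 1 ∨ u x = -1 by omega) with e | e <;> rw [e] <;> norm_num
  rw [← add_sum_erase _ _ (mem_univ χ), hone χ hu0] at hgram
  rw [← add_sum_erase _ _ (mem_univ χ), hχ, hone χ hu0] at hgram'
  obtain ⟨y, hy, hy0⟩ : ∃ y ∈ univ.erase χ, u y ≠ 0 := by
    by_contra hh
    push Not at hh
    rw [sum_eq_zero fun y hy => by rw [hh y hy, zero_mul]] at hgram
    omega
  rw [← add_sum_erase _ _ hy, hone y hy0] at hgram
  have hrest : ∀ x ∈ (univ.erase χ).erase y, u x = 0 := fun x hx => mul_self_eq_zero.1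
    ((sum_eq_zero_iff_of_nonneg fun x _ => mul_self_nonneg _).1 (by linarith) x hx)
  rw [← add_sum_erase _ _ hy, sum_eq_zero fun x hx => by rw [hrest x hx, zero_mul]] at hgram'
  by_cases hyy : Char.conjIrr y = y
  · rw [hyy, hone y hy0] at hgram'; omega
  · have : u (Char.conjIrr y) = 0 := hrest _ (mem_erase.2 ⟨hyy, mem_erase.2 ⟨fun e =>
      (mem_erase.1 hy).1 (by rw [← Char.conjIrr_conjIrr y, e, hχ]), mem_univ _⟩⟩)
    rw [this, mul_zero] at hgram'; omega

set_option maxHeartbeats 1500000 in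
/-- The order of the centre is twice a square. -/
theorem Data.exists_two_mul_sq (hD : Data K E) (hsq : Nat.card K = (Fintype.card E + 1) ^ 2) :
    ∃ f : ℕ, Fintype.card E + 1 = 2 * f ^ 2 := by
  classical
  set e := Fintype.card E with he
  have he0 : 0 < e := Fintype.card_pos
  have hsq' : Nat.card K = Nat.card (Subgroup.center K) ^ 2 := by rw [hD.kernel.card_center, hsq]
  have hfree := free_conjAct hD.setup
  set ρ := conjAct hD.setup
  set one := Char.trivialChar K with hone
  -- a non-linear character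
  obtain ⟨σ₀, hσ₀⟩ : ∃ σ : IrrCharacter K, Char.degree σ ≠ 1 := by
    by_contra hcon
    push Not at hcon
    obtain ⟨x, y, hxy⟩ := hD.kernel.nonab
    exact hxy ((Char.forall_apply_one_iff_comm.1 fun χ => by
      rw [Char.apply_one_eq_degree, hcon χ, Nat.cast_one]) x y)
  set f := Char.degree σ₀ with hf
  set Λ := univ.filter fun θ : IrrCharacter K => centralChar θ = centralChar σ₀ with hΛ
  have hΛspec : ∀ σ ∈ Λ, centralChar σ = centralChar σ₀ ∧ Char.degree σ = f ∧ σ ≠ one := by
    intro σ hσ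
    have h := (mem_filter.1 hσ).2
    have hd := hD.kernel.degree_eq_of_centralChar h
    exact ⟨h, hd, fun e' => hσ₀ (hd.symm.trans (by rw [e', hone, degree_trivial]))⟩
  have hΛf : Λ.card * f ^ 2 = e + 1 := by
    have h : ∑ θ ∈ Λ, Char.degree θ ^ 2 * Nat.card (Subgroup.center K) = Nat.card K := by
      rw [hΛ]; convert hD.kernel.sum_sq_fibre σ₀
    rw [sum_congr rfl (g := fun _ => f ^ 2 * Nat.card (Subgroup.center K)) fun σ hσ => by
      rw [hD.kernel.degree_eq_of_centralChar (mem_filter.1 hσ).2], sum_const, smul_eq_mul,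
      hD.kernel.card_center, hsq, ← he, sq (e + 1), ← mul_assoc] at h
    have h' := Nat.eq_of_mul_eq_mul_right e.succ_pos h
    convert h' using 3
  have hσ₀mem : σ₀ ∈ Λ := mem_filter.2 ⟨mem_univ _, rfl⟩
  have hσ₀' : Char.conjIrr σ₀ ∈ Λ := mem_filter.2 ⟨mem_univ _, hD.centralChar_conjIrr σ₀⟩
  have hσ₀ne : Char.conjIrr σ₀ ≠ σ₀ := fun h => hσ₀ (hD.kernel.degree_eq_one_of_real hsq' h)
  have hpair : ∀ σ ∈ Λ, Char.conjIrr σ ∈ Λ ∧ Char.conjIrr σ ≠ σ := fun σ hσ =>
    ⟨mem_filter.2 ⟨mem_univ _, (hD.centralChar_conjIrr σ).trans (hΛspec σ hσ).1⟩,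
      fun h => hσ₀ ((hΛspec σ hσ).2.1 ▸ hD.kernel.degree_eq_one_of_real hsq' h)⟩
  by_cases hR2 : Λ.card = 2
  · exact ⟨f, by rw [← hΛf, hR2]⟩
  have hR : 4 ≤ Λ.card := by
    have h2 : 2 ≤ Λ.card := one_lt_card.2 ⟨_, hσ₀', _, hσ₀mem, hσ₀ne⟩
    have h3 : Λ.card ≠ 3 := by
      intro h3
      have hs : ({σ₀, Char.conjIrr σ₀} : Finset (IrrCharacter K)) ⊆ Λ := by
        simp [insert_subset_iff, hσ₀mem, hσ₀']
      obtain ⟨τ, hτ, hτn⟩ := exists_of_ssubset ⟨hs, fun h => by
        have := card_le_card h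
        rw [card_pair hσ₀ne.symm, h3] at this
        omega⟩
      obtain ⟨hτ', hτne⟩ := hpair τ hτ
      simp only [mem_insert, mem_singleton, not_or] at hτn
      have hs' : ({τ, Char.conjIrr τ, σ₀, Char.conjIrr σ₀} : Finset (IrrCharacter K)) ⊆ Λ := by
        simp [insert_subset_iff, hτ, hτ', hσ₀mem, hσ₀']
      have := card_le_card hs'
      rw [card_insert_of_notMem, card_insert_of_notMem, card_pair hσ₀ne.symm, h3] at this
      · omega
      · simp only [mem_insert, mem_singleton, not_or]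
        exact ⟨fun h => hτn.2 (by rw [← h, Char.conjIrr_conjIrr]),
          fun h => hτn.1 (by rw [← Char.conjIrr_conjIrr τ, h, Char.conjIrr_conjIrr])⟩
      · simp only [mem_insert, mem_singleton, not_or]
        exact ⟨hτne.symm, hτn.1, hτn.2⟩
    omega
  exfalso
  -- the non-linear characters are the orbits of the fibre
  set NL := univ.filter fun θ : IrrCharacter K => Char.degree θ ≠ 1
  set orb := fun p : E × IrrCharacter K => twist ρ p.1 p.2 with horb
  have hinj : Set.InjOn orb (univ ×ˢ Λ : Finset (E × IrrCharacter K)) := by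
    rintro ⟨g, σ⟩ hp ⟨g', σ'⟩ hp' h
    simp only [coe_product, Set.mem_prod, mem_coe] at hp hp'
    simp only [horb] at h
    have h2 : twist ρ (g * g'⁻¹) σ = σ' := by
      rw [twist_mul, h, ← twist_mul, mul_inv_cancel, twist_one]
    have h3 := hD.eq_one_of_twist (by rw [(hΛspec σ hp.2).2.1]; exact hσ₀)
      ((hΛspec σ' hp'.2).1.trans (hΛspec σ hp.2).1.symm) h2
    rw [mul_inv_eq_one] at h3
    rw [h3, mul_inv_cancel, twist_one] at h2
    rw [h3, h2]
  have hcardL : (univ.filter fun η : IrrCharacter K => Char.degree η = 1).card = e + 1 := by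
    have h := hD.card_linear
    rw [hsq, sq, ← he] at h
    exact Nat.eq_of_mul_eq_mul_right e.succ_pos h
  have hsumNL : ∑ θ ∈ NL, Char.degree θ ^ 2 = (e + 1) * e := by
    have h := sum_degree_sq K
    rw [hsq, ← sum_filter_add_sum_filter_not univ (fun θ : IrrCharacter K => Char.degree θ = 1),
      sum_congr rfl (s₁ := univ.filter fun θ : IrrCharacter K => Char.degree θ = 1)
        (g := fun _ => 1) fun θ hθ => by rw [(mem_filter.1 hθ).2, one_pow],
      ← card_eq_sum_ones, hcardL] at h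
    have : (e + 1) ^ 2 = (e + 1) + (e + 1) * e := by ring
    change _ + ∑ θ ∈ NL, _ = _ at h
    omega
  have himg : (univ ×ˢ Λ).image orb = NL := by
    have hsub : (univ ×ˢ Λ).image orb ⊆ NL := by
      intro θ hθ
      obtain ⟨⟨g, σ⟩, hp, rfl⟩ := mem_image.1 hθ
      exact mem_filter.2 ⟨mem_univ _, by
        rw [degree_twist, (hΛspec σ (mem_product.1 hp).2).2.1]; exact hσ₀⟩
    refine Subset.antisymm hsub fun θ hθ => by_contra fun hn => ?_
    have h1 := sum_le_sum_of_subset (f := fun θ => Char.degree θ ^ 2)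
      (insert_subset hθ hsub)
    rw [sum_insert hn, sum_image hinj, sum_congr rfl fun p hp => by
      rw [horb, degree_twist, (hΛspec p.2 (mem_product.1 hp).2).2.1], sum_const, card_product,
      card_univ, smul_eq_mul, hsumNL, ← he, mul_assoc, hΛf] at h1
    have hpos := Nat.pow_pos (n := 2) (Char.degree_pos θ)
    have : e * (e + 1) = (e + 1) * e := mul_comm _ _
    omega
  -- the characters containing the linear characters
  obtain ⟨S, hS1, hSθ, hSc⟩ := hD.steinberg
  obtain ⟨η, hη, hηd⟩ : ∃ η : IrrCharacter K, η ≠ one ∧ Char.degree η = 1 := by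
    obtain ⟨η, hη, hne⟩ := exists_mem_ne (show 1 < (univ.filter fun η : IrrCharacter K =>
      Char.degree η = 1).card by omega) one
    exact ⟨η, hne, (mem_filter.1 hη).2⟩
  obtain ⟨hMη, hC⟩ := hD.linear_facts hη hηd
  set C := univ.filter fun χ : IrrCharacter G => resMult K η χ ≠ 0
  have hCspec : ∀ χ ∈ C, resMult K η χ = 1 ∧ Char.conjIrr χ = χ ∧ χ ≠ Char.trivialChar G := by
    intro χ hχ
    obtain ⟨h1, h2⟩ := hMη χ (mem_filter.1 hχ).2
    refine ⟨h1, by_contra fun hr => ?_, fun h => ?_⟩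
    · rw [nu_eq_zero hr] at h2; exact zero_ne_one h2
    · rw [h, resMult_trivial_of_ne hη] at h1; exact zero_ne_one h1
  have hlin : ∀ η' : IrrCharacter K, η' ≠ one → Char.degree η' = 1 →
      ∀ χ, resMult K η' χ = resMult K η χ := by
    intro η' hη' hη'd χ
    have hsub : (univ.filter fun θ => mult ρ η θ ≠ 0) =
        (univ.filter fun θ : IrrCharacter K => Char.degree θ = 1).erase one := by
      refine eq_of_subset_of_card_le (fun θ hθ => ?_) ?_
      · have hm := (mem_filter.1 hθ).2
        obtain ⟨g, hg⟩ := exists_of_mult_ne_zero hm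
        refine mem_erase.2 ⟨?_, mem_filter.2 ⟨mem_univ _, ?_⟩⟩
        · rw [← hg]; exact twist_ne_trivial hη g
        · rw [← degree_eq_of_mult hm, hηd]
      · rw [card_mult_ne_zero hfree hη, card_erase_of_mem
          (mem_filter.2 ⟨mem_univ _, by rw [hone, degree_trivial]⟩), hcardL]
        omega
    have hm : η' ∈ univ.filter fun θ => mult ρ η θ ≠ 0 :=
      hsub ▸ mem_erase.2 ⟨hη', mem_filter.2 ⟨mem_univ _, hη'd⟩⟩
    obtain ⟨g, hg⟩ := exists_of_mult_ne_zero (mem_filter.1 hm).2
    rw [← hg, resMult_twist]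
  set J := C.filter fun χ => resMult K one χ = 0 with hJ
  set I := C.filter fun χ => ¬ resMult K one χ = 0 with hI
  have hSC : S ∈ C := mem_filter.2 ⟨mem_univ _, by rw [hSθ η hη, hηd]; exact one_ne_zero⟩
  have hIk : ∀ χ ∈ I, (χ = S ∨ resMult K one χ = 2) ∧
      ∀ θ, θ ≠ one → resMult K θ χ = Char.degree θ := by
    intro χ hχ
    obtain ⟨hχC, hm⟩ := mem_filter.1 hχ
    rcases hSc χ hm with h | h | ⟨h, h'⟩
    · exact absurd h (hCspec χ hχC).2.2
    · exact ⟨Or.inl h, h ▸ hSθ⟩
    · exact ⟨Or.inr h, h'⟩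
  have hIcard : 2 * I.card = e + 1 := by
    have h := gram_trivial hD.setup hη
    rw [hηd, Nat.cast_one, one_mul] at h
    have e1 : ∀ χ : IrrCharacter G, (resMult K η χ : ℤ) * resMult K one χ =
        if χ ∈ I then (2 : ℤ) - (if χ = S then 1 else 0) else 0 := by
      intro χ
      by_cases hχ : χ ∈ I
      · rw [if_pos hχ, (hCspec χ (mem_filter.1 hχ).1).1]
        by_cases hS : χ = S
        · rw [if_pos hS, hS, hS1]; norm_num
        · rw [if_neg hS, ((hIk χ hχ).1.resolve_left hS)]; norm_num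
      · rw [if_neg hχ]
        by_cases hm : resMult K η χ = 0
        · rw [hm, Nat.cast_zero, zero_mul]
        · have : resMult K one χ = 0 := by_contra fun h0 =>
            hχ (mem_filter.2 ⟨mem_filter.2 ⟨mem_univ _, hm⟩, h0⟩)
          rw [this, Nat.cast_zero, mul_zero]
    rw [sum_congr rfl fun χ _ => e1 χ, sum_ite_mem, univ_inter, sum_sub_distrib, sum_const,
      sum_ite_eq' I S, if_pos (mem_filter.2 ⟨hSC, by rw [hS1]; exact one_ne_zero⟩),
      nsmul_eq_mul, ← he] at h
    omega
  have hJI : J.card + I.card = e + 1 := by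
    rw [hJ, hI, card_filter_add_card_filter_not, hC]
  set k := fun χ => (resMult K σ₀ χ : ℤ) with hk
  have hσ₀1 : σ₀ ≠ one := (hΛspec σ₀ hσ₀mem).2.2
  have hCsplit : ∀ φ : IrrCharacter G → ℤ, ∑ χ ∈ C, φ χ = ∑ χ ∈ J, φ χ + ∑ χ ∈ I, φ χ :=
    fun φ => (sum_filter_add_sum_filter_not C _ φ).symm
  have hkI : ∀ χ ∈ I, k χ = f := fun χ hχ => by rw [hk]; simp only; rw [(hIk χ hχ).2 σ₀ hσ₀1]
  have hJsum : ∑ χ ∈ J, k χ = (e : ℤ) * f - (I.card : ℤ) * f := by
    have h := gram hD.setup hη hσ₀1
    rw [mult_eq_zero_of_degree (by rw [hηd]; exact Ne.symm hσ₀), hηd, ← he, ← hf] at h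
    have e1 : ∑ χ : IrrCharacter G, (resMult K η χ : ℤ) * resMult K σ₀ χ = ∑ χ ∈ C, k χ := by
      rw [sum_filter]
      refine sum_congr rfl fun χ _ => ?_
      split_ifs with hm
      · rw [(hMη χ hm).1, Nat.cast_one, one_mul]
      · rw [not_ne_iff.1 hm, Nat.cast_zero, zero_mul]
    rw [e1, hCsplit, sum_congr rfl hkI, sum_const, nsmul_eq_mul] at h
    push_cast at h
    linarith
  have hJsq : ∑ χ ∈ J, k χ * k χ + (I.card : ℤ) * (f * f) ≤ (e : ℤ) * f * f + 1 := by
    have h := gram hD.setup hσ₀1 hσ₀1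
    rw [mult_self hfree hσ₀1, ← he, ← hf] at h
    rw [Nat.cast_one] at h
    rw [← h]
    have h' := sum_le_univ_sum_of_nonneg (s := C) (fun χ => mul_self_nonneg (k χ))
    rw [hCsplit, sum_congr (s₁ := I) rfl (g := fun _ => (f : ℤ) * f) fun χ hχ => by rw [hkI χ hχ],
      sum_const, nsmul_eq_mul] at h'
    exact h'
  have hJcard : J.card = I.card := by omega
  have hq : (2 : ℤ) * I.card = e + 1 := by exact_mod_cast hIcard
  obtain ⟨x, hx, hxk⟩ : ∃ x ∈ J, (f : ℤ) ≤ k x := by
    by_contra hcon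
    push Not at hcon
    have h1 : ∑ χ ∈ J, k χ ≤ ∑ χ ∈ J, ((f : ℤ) - 1) := sum_le_sum fun χ hχ => by
      have := hcon χ hχ; omega
    rw [sum_const, nsmul_eq_mul, hJsum, hJcard] at h1
    have hfI : (f : ℤ) + 1 ≤ I.card := by
      have : 4 * f ^ 2 ≤ Λ.card * f ^ 2 := Nat.mul_le_mul_right _ hR
      have hf1 : 2 ≤ f := by have := Char.degree_pos σ₀; omega
      have : 2 * f ≤ f ^ 2 := by rw [sq]; exact Nat.mul_le_mul_right f hf1
      omega
    nlinarith
  have hxk' : k x ≤ 2 * f := by
    have h1 : (k x - f) * (k x - f) ≤ ∑ χ ∈ J, (k χ - f) * (k χ - f) :=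
      single_le_sum (f := fun χ => (k χ - f) * (k χ - f)) (fun χ _ => mul_self_nonneg _) hx
    have e1 : ∀ χ, (k χ - f) * (k χ - f) = k χ * k χ - 2 * f * k χ + (f : ℤ) * f :=
      fun χ => by ring
    rw [sum_congr rfl fun χ _ => e1 χ, sum_add_distrib, sum_sub_distrib, ← mul_sum, hJsum,
      sum_const, nsmul_eq_mul, hJcard] at h1
    have h2 : (k x - f) * (k x - f) ≤ (f : ℤ) * f + 1 := by nlinarith
    by_contra hlt
    push Not at hlt
    have h3 : ((f : ℤ) + 1) * (f + 1) ≤ (k x - f) * (k x - f) :=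
      mul_self_le_mul_self (by positivity) (by linarith)
    have : (1 : ℤ) ≤ f := by exact_mod_cast Char.degree_pos σ₀
    nlinarith
  obtain ⟨hxC, hx0⟩ := mem_filter.1 hx
  obtain ⟨hx1, hxreal, -⟩ := hCspec x hxC
  set κ := resMult K σ₀ x
  -- the degree
  have hdeg : Char.degree x = e * (1 + f * Λ.card * κ) := by
    rw [degree_eq_sum_resMult (K := K) x,
      ← sum_filter_add_sum_filter_not univ (fun θ : IrrCharacter K => Char.degree θ = 1),
      ← add_sum_erase _ _ (show one ∈ univ.filter fun θ : IrrCharacter K => Char.degree θ = 1 from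
        mem_filter.2 ⟨mem_univ _, by rw [hone, degree_trivial]⟩), hx0, zero_mul, zero_add,
      sum_congr rfl (s₁ := (univ.filter fun θ : IrrCharacter K => Char.degree θ = 1).erase one)
        (g := fun _ => 1) fun θ hθ => by
          rw [hlin θ (mem_erase.1 hθ).1 (mem_filter.1 (mem_erase.1 hθ).2).2, hx1,
            (mem_filter.1 (mem_erase.1 hθ).2).2],
      ← card_eq_sum_ones, card_erase_of_mem (mem_filter.2 ⟨mem_univ _, by rw [hone, degree_trivial]⟩),
      hcardL, Nat.add_sub_cancel]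
    change e + ∑ θ ∈ NL, _ = _
    rw [← himg, sum_image hinj, sum_congr rfl (g := fun _ => κ * f) fun p hp => ?_, sum_const,
      card_product, card_univ, smul_eq_mul, ← he]
    · ring
    · have hp2 := (mem_product.1 hp).2
      rw [horb, resMult_twist, degree_twist, (hΛspec p.2 hp2).2.1,
        hD.resMult_eq_of_real hsq hσ₀ (hΛspec p.2 hp2).1 hxreal]
  have hdvd := Char.degree_dvd_natCard x
  rw [hD.setup.card, hsq, hdeg, Nat.card_eq_fintype_card (α := E), ← he,
    show ((e + 1) ^ 2 + 1) * ((e + 1) ^ 2 * e) = e * (((e + 1) ^ 2 + 1) * (e + 1) ^ 2) by ring]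
    at hdvd
  have hdvd' := Nat.dvd_of_mul_dvd_mul_left he0 hdvd
  obtain ⟨hκ1, hκ2⟩ : f ≤ κ ∧ κ ≤ 2 * f := by
    simp only [hk] at hxk hxk'
    constructor
    · exact_mod_cast hxk
    · exact_mod_cast hxk'
  refine not_dvd_sq_add_one (q := e + 1) (f := f) (L := f * Λ.card) (k := κ)
    (Char.degree_pos σ₀) ?_ (by rw [mul_comm 4 f]; exact Nat.mul_le_mul_left f hR) hκ1 hκ2 ?_
  · rw [← hΛf]; ring
  refine (Nat.Coprime.pow_right 2 ?_).dvd_of_dvd_mul_right hdvd'
  rw [← hΛf]
  refine Nat.Coprime.mul_right ?_ (Nat.Coprime.pow_right 2 ?_)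
  · rw [show 1 + f * Λ.card * κ = 1 + Λ.card * (f * κ) by ring, Nat.coprime_add_mul_left_left]
    exact Nat.coprime_one_left _
  · rw [show 1 + f * Λ.card * κ = 1 + f * (Λ.card * κ) by ring, Nat.coprime_add_mul_left_left]
    exact Nat.coprime_one_left _

end Cfsg.Agent.ZassenhausSuzuki
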