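import Mathlib
import Cfsg.Prelude.Def_LieRecognition
import Cfsg.Agent.S0345
import Cfsg.Agent.Lib.SuzukiTwo.Structure
import Cfsg.Agent.Lib.ZassenhausFeit.Inequality
import Cfsg.Agent.Lib.ZassenhausSuzuki.Square

/-!
# Simple Zassenhaus groups with non-abelian kernel of 2-power order

The kernel is a Suzuki 2-group of order `q ^ 2`, the two-point stabilisers are cyclic of order
`q - 1`, and `q` is an odd power of two.
-/

set_option autoImplicit false
set_option linter.unusedSectionVars false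
set_option linter.style.haveILetI false
set_option linter.unusedDecidableInType false

namespace Cfsg.Agent.ZassenhausSuzuki

open MulAction Finset Cfsg.Agent.ZassenhausOdd Cfsg.Agent.ZassenhausFeit

universe u v

/-- The multiplicities of a character which is constant off the identity of `K`. -/
theorem resMult_of_values {G : Type u} [Group G] [Fintype G] {K : Subgroup G} [Fintype K]
    (χ : IrrCharacter G) (c d : ℕ) (h1 : χ.1 1 = (c : ℂ) + d * Nat.card K)
    (hk : ∀ k ∈ K, k ≠ 1 → χ.1 k = (c : ℂ)) :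
    resMult K (Char.trivialChar K) χ = c + d ∧
      ∀ θ, θ ≠ Char.trivialChar K → resMult K θ χ = d * Char.degree θ := by
  classical
  have hne : (Nat.card K : ℂ) ≠ 0 := Nat.cast_ne_zero.2 Nat.card_pos.ne'
  have key : ∀ θ : IrrCharacter K, (resMult K θ χ : ℂ) =
      c * classInner (Char.trivialChar K).1 θ.1 + d * Char.degree θ := by
    intro θ
    rw [← resMult_eq, classInner, classInner]
    have hval : ∀ x : K, χ.1 x * (starRingEnd ℂ) (θ.1 x) =
        (c : ℂ) * ((Char.trivialChar K).1 x * (starRingEnd ℂ) (θ.1 x)) +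
          if x = 1 then (d : ℂ) * Nat.card K * Char.degree θ else 0 := by
      intro x
      by_cases hx : x = 1
      · subst hx
        rw [Subgroup.coe_one, h1, if_pos rfl, Char.apply_one_eq_degree θ, map_natCast,
          Char.trivialChar_apply]
        ring
      · rw [hk x x.2 fun e => hx (Subtype.ext e), if_neg hx, Char.trivialChar_apply]
        ring
    rw [sum_congr rfl fun x _ => hval x, sum_add_distrib, ← mul_sum, sum_ite_eq' univ (1 : K),
      if_pos (mem_univ _)]
    field_simp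
  refine ⟨?_, fun θ hθ => ?_⟩
  · have h := key (Char.trivialChar K)
    rw [Char.classInner_irr_self (Char.trivialChar K).2, ZassenhausFeit.degree_trivial, mul_one,
      Nat.cast_one, mul_one] at h
    exact_mod_cast h
  · have h := key θ
    rw [Char.classInner_irr_of_ne (Char.trivialChar K).2 θ.2 fun e => hθ (Subtype.ext e.symm),
      mul_zero, zero_add] at h
    exact_mod_cast h

/-- The kernel of a simple Zassenhaus group, when it is a non-abelian 2-group. -/
theorem structure_of_nonabelian_two {G : Type u} {Ω : Type v} [Group G] [Fintype G]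
    [MulAction G Ω] [Fintype Ω] [IsSimpleGroup G] (hZ : Cfsg.IsZassenhausGroup G Ω) {a b : Ω}
    (hab : a ≠ b) {H : Subgroup G} (hHa : H ≤ stabilizer G a)
    (hHcard : Nat.card H + 1 = Fintype.card Ω)
    (hHfix : ∀ u ∈ H, u ≠ 1 → ∀ c : Ω, u • c = c → c = a) (hH2 : IsPGroup 2 H)
    (hnab : ∃ u v : H, u * v ≠ v * u) :
    ∃ m : ℕ, Odd m ∧ 1 < m ∧ Fintype.card Ω = 2 ^ (2 * m) + 1 ∧
      IsCyclic (twoStab G a b) ∧ Nat.card (twoStab G a b) = 2 ^ m - 1 ∧
      Cfsg.IsSuzukiTwoGroup H ∧ Nat.card (Subgroup.center H) = 2 ^ m ∧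
      Nat.card G = (2 ^ m) ^ 2 * ((2 ^ m) ^ 2 + 1) * (2 ^ m - 1) := by
  classical
  haveI : Fact (Nat.Prime 2) := ⟨Nat.prime_two⟩
  have h3 := Perm.Zass.three_le hZ
  have hperf : commutator G = ⊤ := commutator_eq_top hZ
  obtain ⟨k, hk⟩ := hH2.exists_card_eq
  have hk0 : k ≠ 0 := by rintro rfl; rw [pow_zero] at hk; omega
  have hn : Odd (Fintype.card Ω) := by
    rw [← hHcard, hk]
    obtain ⟨j, rfl⟩ := Nat.exists_eq_succ_of_ne_zero hk0
    exact ⟨2 ^ j, by rw [pow_succ]; ring⟩
  set E := twoStab G a b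
  have hodd : Odd (Nat.card E) := by
    refine Odd.of_dvd_nat ?_ (Perm.ZassEven.card_stab_dvd hZ hab)
    obtain ⟨j, hj⟩ := hn
    exact ⟨j - 1, by omega⟩
  have he1 : 1 < Nat.card E := twoStab_nontrivial hZ hab
  letI := Fintype.ofFinite H
  letI := Fintype.ofFinite E
  haveI : Nontrivial H := Finite.one_lt_card_iff_nontrivial.1 (by omega)
  have hs := setup_of_zassenhaus hZ hab hHa hHcard hHfix
  set ρ := conjAct hs
  have hfree := free_conjAct hs
  have hcyc : IsCyclic E := (S0345.result hZ hab).1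
  -- the involutions of `H` are central and permuted transitively
  have hord : ∀ z : H, z ≠ 1 → z * z = 1 → orderOf (z : G) = 2 := fun z hz1 hz => by
    rw [Subgroup.orderOf_coe]
    exact orderOf_eq_prime (by rw [pow_two, hz]) hz1
  obtain ⟨z₀, hz₀c, hz₀1, hz₀2⟩ : ∃ z₀ : H, z₀ ∈ Subgroup.center H ∧ z₀ ≠ 1 ∧ z₀ * z₀ = 1 := by
    haveI : Nontrivial (Subgroup.center H) := hH2.center_nontrivial
    obtain ⟨j, hj⟩ := (hH2.to_subgroup (Subgroup.center H)).exists_card_eq
    have hj0 : j ≠ 0 := by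
      rintro rfl
      have := Finite.one_lt_card (α := Subgroup.center H)
      rw [hj] at this; simp at this
    obtain ⟨z, hz⟩ := exists_prime_orderOf_dvd_card' (G := Subgroup.center H) 2
      (by rw [hj]; exact dvd_pow_self 2 hj0)
    refine ⟨z, z.2, fun e => ?_, ?_⟩
    · rw [show z = 1 from Subtype.ext e, orderOf_one] at hz; omega
    · have h := pow_orderOf_eq_one z
      rw [hz, pow_two] at h
      exact congrArg Subtype.val h
  have hmove : ∀ s : H, s ≠ 1 → s * s = 1 → s ∈ Subgroup.center H ∧ ∃ g : E, ρ g z₀ = s := by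
    intro s hs1 hs2
    obtain ⟨c, hc⟩ := isConj_iff.1
      (isConj_involution hZ hperf hab hodd (hord z₀ hz₀1 hz₀2) (hord s hs1 hs2))
    have hca : c • a = a := smul_eq_of_conj_mem hZ hHa hHcard hHfix z₀.2
      (fun e => hz₀1 (Subtype.ext e)) (by rw [hc]; exact s.2)
    have hcb : c • b ≠ a := fun e => hab.symm (smul_left_cancel c (e.trans hca.symm))
    obtain ⟨u, hu, hub⟩ := exists_kernel_smul hZ hab hHa hHcard hHfix hcb
    have hg : u⁻¹ * c ∈ E := ⟨show (u⁻¹ * c) • a = a by
        rw [mul_smul, hca, inv_smul_eq_iff]; exact (hHa hu).symm,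
      show (u⁻¹ * c) • b = b by rw [mul_smul, inv_smul_eq_iff, hub]⟩
    set g : E := ⟨u⁻¹ * c, hg⟩
    have hcen : ρ g z₀ ∈ Subgroup.center H := by
      rw [Subgroup.mem_center_iff]
      intro w
      obtain ⟨w, rfl⟩ := (ρ g).surjective w
      rw [← map_mul, ← map_mul, Subgroup.mem_center_iff.1 hz₀c w]
    have heq : ρ g z₀ = s := by
      have h1 := Subgroup.mem_center_iff.1 hcen ⟨u, hu⟩
      refine Subtype.ext ?_
      have h2 : u * ((ρ g z₀ : H) : G) = ((ρ g z₀ : H) : G) * u := congrArg Subtype.val h1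
      calc ((ρ g z₀ : H) : G) = u * ((ρ g z₀ : H) : G) * u⁻¹ := by rw [h2, mul_inv_cancel_right]
        _ = s := by rw [conjAct_coe, ← hc]; simp only [g]; group
    exact ⟨heq ▸ hcen, g, heq⟩
  have hfix_inj : ∀ z : H, z ≠ 1 → ∀ g g' : E, ρ g z = ρ g' z → g = g' := by
    intro z hz g g' h
    by_contra hne
    refine hfree (g'⁻¹ * g) (fun e => hne (inv_mul_eq_one.1 e).symm) z hz ?_
    rw [map_mul ρ, MulAut.mul_apply, h, ← MulAut.mul_apply, ← map_mul ρ, inv_mul_cancel, map_one]
    exact IsConj.refl _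
  -- the number of involutions of `H`
  have hcount : Nat.card {z : H // z * z = 1} = Nat.card E + 1 := by
    rw [Nat.card_eq_fintype_card, Fintype.card_subtype,
      ← insert_erase (show (1 : H) ∈ univ.filter fun z : H => z * z = 1 by simp),
      card_insert_of_notMem (notMem_erase _ _), ← card_involutions_fixing hZ hperf hab hodd hn a]
    congr 1
    refine card_bij (fun z _ => (z : G)) (fun z hz => ?_) (fun z _ w _ h => Subtype.ext h)
      fun s hs => ?_
    · rw [mem_erase, mem_filter] at hz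
      exact mem_filter.2 ⟨mem_univ _, hord z hz.1 hz.2.2, hHa z.2⟩
    · obtain ⟨hso, hsa⟩ := (mem_filter.1 hs).2
      have hsH : s ∈ H := mem_kernel_of_fix_only hZ hHa hHcard hHfix hsa fun c hc =>
        involution_fix_unique hZ (fun c d h => odd_twoStab hZ hab hodd h) hso hc hsa
      refine ⟨⟨s, hsH⟩, mem_erase.2 ⟨fun e => ?_, mem_filter.2 ⟨mem_univ _,
        Subtype.ext (Perm.Zass.sq_eq_one_of_order hso)⟩⟩, rfl⟩
      rw [show s = 1 from congrArg Subtype.val e, orderOf_one] at hso
      omega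
  have hSuz : Cfsg.IsSuzukiTwoGroup H := by
    refine ⟨inferInstance, hH2, hnab, ?_, ρ.range, ?_, ?_⟩
    · haveI : Nontrivial E := Finite.one_lt_card_iff_nontrivial.1 he1
      obtain ⟨g, hg⟩ := exists_ne (1 : E)
      refine ⟨z₀, ρ g z₀, fun h => hg (hfix_inj z₀ hz₀1 g 1 (by rw [map_one]; exact h.symm)),
        hz₀1, hz₀2, fun h => hz₀1 ((map_eq_one_iff _ (ρ g).injective).1 h),
        by rw [← map_mul, hz₀2, map_one]⟩
    · exact isCyclic_of_surjective ρ.rangeRestrict ρ.rangeRestrict_surjective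
    · intro x y hx1 hx hy1 hy
      obtain ⟨-, gx, hgx⟩ := hmove x hx1 hx
      obtain ⟨-, gy, hgy⟩ := hmove y hy1 hy
      refine ⟨⟨ρ (gy * gx⁻¹), gy * gx⁻¹, rfl⟩, ?_, ?_⟩
      · show ρ (gy * gx⁻¹) x = y
        rw [← hgx, ← MulAut.mul_apply, ← map_mul ρ, inv_mul_cancel_right, hgy]
      · rintro ⟨-, g, rfl⟩ hg
        have hg' : ρ g x = y := hg
        rw [← hgy, ← hgx, ← MulAut.mul_apply, ← map_mul ρ] at hg'
        refine Subtype.ext (congrArg ρ ?_)
        rw [eq_mul_inv_iff_mul_eq]
        exact hfix_inj z₀ hz₀1 _ _ hg'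
  obtain ⟨-, K, hS⟩ := SuzukiTwo.exists_sz hSuz
  have hcenter : Nat.card (Subgroup.center H) = Fintype.card E + 1 := by
    rw [← Nat.card_eq_fintype_card (α := E), ← hcount]
    exact Nat.card_congr (Equiv.subtypeEquivRight fun z => hS.mem_center_iff_sq)
  have hker : Kernel ρ :=
    { free := hfree
      center_iff := fun x => hS.mem_center_iff_sq
      sq_mem := fun x => by rw [hS.center_eq]; exact hS.sq_mem x
      comm_mem := fun x y => by rw [hS.center_eq]; exact hS.cm_mem_invSub x y
      card_center := hcenter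
      trans := fun z w hz hz1 hw hw1 => by
        obtain ⟨-, gz, hgz⟩ := hmove z hz1 (hS.mem_center_iff_sq.1 hz)
        obtain ⟨-, gw, hgw⟩ := hmove w hw1 (hS.mem_center_iff_sq.1 hw)
        exact ⟨gw * gz⁻¹, by
          rw [← hgz, ← MulAut.mul_apply, ← map_mul ρ, inv_mul_cancel_right, hgw]⟩
      nonab := hnab }
  have hsq1 : Char.sqRootCount (1 : G) = 1 + ((Nat.card H : ℂ) + 1) * Fintype.card E := by
    have h1 : Nat.card {u : G // u * u = 1} = 1 + Fintype.card Ω * Nat.card E := by
      rw [← card_involutions_of_odd hZ hperf hab hodd hn, Nat.card_eq_fintype_card,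
        Fintype.card_subtype, add_comm,
        ← card_insert_of_notMem (a := (1 : G)) (by simp)]
      congr 1
      ext x
      simp only [mem_filter, mem_univ, true_and, mem_insert]
      constructor
      · intro hx
        rcases eq_or_ne x 1 with h | h
        · exact Or.inl h
        · exact Or.inr (orderOf_eq_prime (by rw [pow_two, hx]) h)
      · rintro (rfl | hx)
        · exact one_mul 1
        · exact Perm.Zass.sq_eq_one_of_order hx
    rw [Char.sqRootCount, h1, ← hHcard, Nat.card_eq_fintype_card (α := E)]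
    push_cast
    rfl
  have hD : Data H E :=
    { setup := hs
      kernel := hker
      sq_one := hsq1
      incoherent := fun χ hχ => not_coherent hZ hperf hab hodd hHa hHcard hHfix hnab χ hχ
      steinberg := by
        obtain ⟨S, -, -, hSK, hS1, hcases⟩ :=
          exists_perm_constituent_cases hZ hperf hab hodd hHa hHcard hHfix
        obtain ⟨hS0, hSθ⟩ := resMult_of_values (K := H) S 0 1 (by simp [hS1])
          (fun x hx hx1 => by rw [hSK x hx hx1, Nat.cast_zero])
        refine ⟨S, hS0, fun θ hθ => by rw [hSθ θ hθ, one_mul], fun χ hχ => ?_⟩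
        rcases hcases χ hχ with h | h | ⟨-, hk, h1⟩
        · exact Or.inl h
        · exact Or.inr (Or.inl h)
        · obtain ⟨e1, e2⟩ := resMult_of_values (K := H) χ 1 1
            (by rw [h1]; push_cast; ring) (fun x hx hx1 => by rw [hk x hx hx1, Nat.cast_one])
          exact Or.inr (Or.inr ⟨e1, fun θ hθ => by rw [e2 θ hθ, one_mul]⟩) }
  have hcard : Nat.card H = (Fintype.card E + 1) ^ 2 := by
    have h := hS.card_eq
    rw [← hS.center_eq, hcenter] at h
    exact h.resolve_right hD.not_cube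
  obtain ⟨f, hf⟩ := hD.exists_two_mul_sq hcard
  obtain ⟨m, hm⟩ := (hH2.to_subgroup (Subgroup.center H)).exists_card_eq
  rw [hcenter] at hm
  have hfd : f ∣ 2 ^ m := ⟨2 * f, by rw [← hm, hf]; ring⟩
  obtain ⟨i, -, rfl⟩ := (Nat.dvd_prime_pow Nat.prime_two).1 hfd
  have hmi : m = 2 * i + 1 := by
    have h : 2 ^ m = 2 ^ (2 * i + 1) := by rw [← hm, hf]; ring
    exact Nat.pow_right_injective le_rfl h
  have hE : Nat.card E = 2 ^ m - 1 := by rw [Nat.card_eq_fintype_card, ← hm, Nat.add_sub_cancel]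
  have hΩ : Fintype.card Ω = 2 ^ (2 * m) + 1 := by
    rw [← hHcard, hcard, hm, ← pow_mul, mul_comm]
  refine ⟨m, ⟨i, hmi⟩, ?_, hΩ, hcyc, hE, hSuz, by rw [hcenter, hm], ?_⟩
  · rcases Nat.eq_zero_or_pos i with rfl | hi
    · rw [show m = 1 by omega] at hE; omega
    · omega
  · rw [card_group hZ hab, hΩ, Nat.add_sub_cancel, hE,
      show 2 ^ (2 * m) = (2 ^ m) ^ 2 by rw [← pow_mul, mul_comm]]
    ring

end Cfsg.Agent.ZassenhausSuzuki

namespace Cfsg.Agent.ZassenhausSuzuki

open MulAction

/-- A subgroup of a point stabiliser which is regular on the other points has the order and the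
fixed points of a kernel. -/
theorem kernel_of_regular {G Ω : Type*} [Group G] [MulAction G Ω] [Fintype Ω] {a b : Ω}
    (hab : a ≠ b) {U : Subgroup G} (hUa : U ≤ stabilizer G a)
    (hreg : ∀ c d : Ω, c ≠ a → d ≠ a → ∃! u : U, (u : G) • c = d) :
    Nat.card U + 1 = Fintype.card Ω ∧ ∀ u ∈ U, u ≠ 1 → ∀ c : Ω, u • c = c → c = a := by
  classical
  have hne : ∀ u : U, (u : G) • b ≠ a := fun u h =>
    hab.symm (smul_left_cancel (u : G) (h.trans (hUa u.2).symm))
  refine ⟨?_, fun u hu hu1 c hc => ?_⟩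
  · rw [Nat.card_congr (Equiv.ofBijective (fun u : U => (⟨(u : G) • b, hne u⟩ : {x : Ω // x ≠ a}))
      ⟨fun u w h => (hreg b ((w : G) • b) hab.symm (hne w)).unique (congrArg Subtype.val h) rfl,
        fun x => let ⟨w, hw, _⟩ := hreg b x.1 hab.symm x.2; ⟨w, Subtype.ext hw⟩⟩),
      Nat.card_eq_fintype_card, Fintype.card_subtype_compl, Fintype.card_subtype_eq]
    have := Fintype.card_pos_iff.2 ⟨a⟩
    omega
  · by_contra hca
    exact hu1 (congrArg Subtype.val
      ((hreg c c hca hca).unique (y₁ := ⟨u, hu⟩) (y₂ := 1) hc (one_smul G c)))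

end Cfsg.Agent.ZassenhausSuzuki
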